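import Mathlib

/-!
# Extending scalars along a polynomial in an endomorphism

For `T ∈ End_F(V)` and `μ ∈ F[X]` with `μ(T) = 0`, the space `V` is a module over `F[X]/(μ)`, the
root acting as `T`. Endomorphisms commuting with `T` become linear over `F[X]/(μ)`.
-/

set_option autoImplicit false

open Polynomial

namespace Cfsg.Agent.Lib.FrobRep

variable {F V : Type*} [Field F] [AddCommGroup V] [Module F V]

/-- The ring hom `F[X]/(μ) → End V`, root ↦ T. -/
noncomputable def extHom (μ : F[X]) (T : Module.End F V) (hT : aeval T μ = 0) :
    AdjoinRoot μ →+* Module.End F V :=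
  Ideal.Quotient.lift (Ideal.span {μ}) (aeval T : F[X] →ₐ[F] Module.End F V).toRingHom (by
    intro a ha
    obtain ⟨b, rfl⟩ := Ideal.mem_span_singleton.1 ha
    simp [hT])

theorem extHom_mk (μ : F[X]) (T : Module.End F V) (hT : aeval T μ = 0) (g : F[X]) :
    extHom μ T hT (AdjoinRoot.mk μ g) = aeval T g := rfl

/-- The module structure. -/
noncomputable abbrev extModule (μ : F[X]) (T : Module.End F V) (hT : aeval T μ = 0) :
    Module (AdjoinRoot μ) V := Module.compHom V (extHom μ T hT)

theorem ext_smul (μ : F[X]) (T : Module.End F V) (hT : aeval T μ = 0) (k : AdjoinRoot μ) (v : V) :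
    (extModule μ T hT).toSMul.smul k v = extHom μ T hT k v := rfl

theorem extHom_algebraMap (μ : F[X]) (T : Module.End F V) (hT : aeval T μ = 0) (c : F) :
    extHom μ T hT (algebraMap F (AdjoinRoot μ) c) = algebraMap F (Module.End F V) c := by
  have : algebraMap F (AdjoinRoot μ) c = AdjoinRoot.mk μ (C c) := rfl
  rw [this, extHom_mk, aeval_C]

theorem ext_tower (μ : F[X]) (T : Module.End F V) (hT : aeval T μ = 0) :
    letI := extModule μ T hT
    IsScalarTower F (AdjoinRoot μ) V := by
  letI := extModule μ T hT
  refine ⟨fun c k v => ?_⟩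
  show extHom μ T hT (c • k) v = c • extHom μ T hT k v
  have : c • k = algebraMap F (AdjoinRoot μ) c * k := Algebra.smul_def c k
  rw [this, map_mul, extHom_algebraMap, Module.End.mul_apply, Module.algebraMap_end_apply]

theorem commute_aeval {L T : Module.End F V} (h : Commute L T) (g : F[X]) :
    Commute L (aeval T g) := by
  induction g using Polynomial.induction_on' with
  | add p q hp hq =>
    rw [map_add]
    exact hp.add_right hq
  | monomial n a =>
    rw [aeval_monomial]
    exact (Algebra.commute_algebraMap_right a L).mul_right (h.pow_right n)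

theorem commute_extHom {L T : Module.End F V} (h : Commute L T) (μ : F[X]) (hT : aeval T μ = 0)
    (k : AdjoinRoot μ) : Commute L (extHom μ T hT k) := by
  induction k using AdjoinRoot.induction_on with
  | ih g =>
    rw [extHom_mk]
    exact commute_aeval h g

/-- A representation all of whose operators are `K`-linear. -/
def liftRep {G K : Type*} [Monoid G] [Semiring K] [Module K V] (ρ : G →* Module.End F V)
    (h : ∀ (g : G) (k : K) (v : V), ρ g (k • v) = k • ρ g v) : G →* Module.End K V where
  toFun g := { toFun := ρ g, map_add' := map_add _, map_smul' := h g }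
  map_one' := by
    ext v
    simp
  map_mul' a b := by
    ext v
    simp

@[simp] theorem liftRep_apply {G K : Type*} [Monoid G] [Semiring K] [Module K V]
    (ρ : G →* Module.End F V) (h : ∀ (g : G) (k : K) (v : V), ρ g (k • v) = k • ρ g v) (g : G)
    (v : V) : liftRep ρ h g v = ρ g v := rfl

theorem exists_irreducible_noninj (T : Module.End F V) (P : F[X]) (hP : P ≠ 0)
    (hn : ¬ Function.Injective (aeval T P)) :
    ∃ f : F[X], Irreducible f ∧ f ∣ P ∧ ¬ Function.Injective (aeval T f) := by
  classical
  induction P using WfDvdMonoid.induction_on_irreducible with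
  | zero => exact absurd rfl hP
  | unit u hu =>
    exfalso
    apply hn
    obtain ⟨c, hc, rfl⟩ := Polynomial.isUnit_iff.1 hu
    rw [aeval_C]
    intro x y hxy
    simp only [Module.algebraMap_end_apply] at hxy
    exact smul_right_injective _ ((isUnit_iff_ne_zero).1 hc) hxy
  | mul a i ha hi ih =>
    by_cases hinj : Function.Injective (aeval T i)
    · have ha0 : a ≠ 0 := left_ne_zero_of_mul (by
        rwa [mul_comm] at hP)
      have hna : ¬ Function.Injective (aeval T a) := by
        intro hinja
        apply hn
        rw [map_mul]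
        exact hinj.comp hinja
      obtain ⟨f, hf, hfa, hfn⟩ := ih ha0 hna
      exact ⟨f, hf, hfa.trans (Dvd.intro_left _ rfl), hfn⟩
    · exact ⟨i, hi, Dvd.intro _ rfl, hinj⟩

theorem natCard_eq_pow_finrank (K W : Type*) [Field K] [AddCommGroup W] [Module K W] [Finite K]
    [Finite W] : Nat.card W = Nat.card K ^ Module.finrank K W := by
  classical
  haveI := Fintype.ofFinite K
  haveI := Fintype.ofFinite W
  rw [Nat.card_eq_fintype_card, Nat.card_eq_fintype_card, Module.card_eq_pow_finrank (K := K)]

theorem finrank_mul_of_tower {K : Type*} [Field K] [Algebra F K] [Module K V] [IsScalarTower F K V]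
    [FiniteDimensional F V] [FiniteDimensional F K] :
    Module.finrank F K * Module.finrank K V = Module.finrank F V :=
  Module.finrank_mul_finrank F K V

end Cfsg.Agent.Lib.FrobRep
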