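import Mathlib
import Cfsg.Agent.Lib.FrobRep.Ext

/-!
# Derived length of `p`-subgroups of linear groups in coprime characteristic

If `P` is a finite `p`-group, `F` a field of characteristic different from `p` and `V` an
`F`-space of dimension `n < p ^ k`, then the `k`-th derived subgroup of `P` acts trivially on `V`.
-/

set_option autoImplicit false
set_option linter.style.haveILetI false

open Polynomial
open scoped commutatorElement

universe u v w

namespace Cfsg.Agent.Lib.FrobRep.PLinear

open Cfsg.Agent.Lib.FrobRep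

/-- The statement proved by induction on the dimension. -/
def Bound (p n : ℕ) : Prop :=
  ∀ (k : ℕ) (F : Type u) [Field F] (V : Type v) [AddCommGroup V] [Module F V]
    [FiniteDimensional F V] (P : Type w) [Group P] [Finite P], IsPGroup p P →
    ∀ ρ : P →* Module.End F V, ((p : ℕ) : F) ≠ 0 → Module.finrank F V = n → n < p ^ k →
      ∀ g ∈ derivedSeries P k, ρ g = 1

section basics

variable {p : ℕ} {F : Type u} [Field F] {V : Type v} [AddCommGroup V] [Module F V]
  {P : Type w} [Group P]

theorem eq_one_of_chain (hP : IsPGroup p P) (ρ : P →* Module.End F V) (hpF : ((p : ℕ) : F) ≠ 0)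
    (g : P) (U : Submodule F V) (h1 : ∀ u ∈ U, ρ g u = u) (h2 : ∀ v, ρ g v - v ∈ U) : ρ g = 1 := by
  obtain ⟨a, ha⟩ := hP g
  set x : Module.End F V := ρ g - 1 with hx
  have hg : ρ g = 1 + x := by
    rw [hx]
    abel
  have hxx : x * x = 0 := by
    apply LinearMap.ext
    intro v
    have h3 : x v ∈ U := h2 v
    have h4 : x (x v) = ρ g (x v) - x v := rfl
    rw [Module.End.mul_apply, h4, h1 _ h3, sub_self]
    rfl
  have hpow : ∀ j : ℕ, (ρ g) ^ j = 1 + (j : F) • x := by
    intro j
    induction j with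
    | zero => simp
    | succ j ih =>
      rw [pow_succ, ih, hg, mul_add, add_mul, add_mul]
      simp only [one_mul, mul_one, smul_mul_assoc, hxx, smul_zero, add_zero]
      push_cast
      rw [add_smul, one_smul]
      abel
  have h5 := hpow (p ^ a)
  rw [← map_pow, ha, map_one] at h5
  have h6 : ((p ^ a : ℕ) : F) • x = 0 := by
    have : (1 : Module.End F V) = 1 + ((p ^ a : ℕ) : F) • x := h5
    exact (left_eq_add.1 this)
  have h7 : ((p ^ a : ℕ) : F) ≠ 0 := by
    push_cast
    exact pow_ne_zero _ hpF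
  have h8 : x = 0 := (smul_eq_zero.1 h6).resolve_left h7
  rw [hg, h8, add_zero]

/-- Restriction to an invariant subspace. -/
def subRep (ρ : P →* Module.End F V) (U : Submodule F V) (hU : ∀ g, ∀ x ∈ U, ρ g x ∈ U) :
    P →* Module.End F U where
  toFun g := (ρ g).restrict (hU g)
  map_one' := by
    ext x
    simp
  map_mul' a b := by
    ext x
    simp

@[simp] theorem subRep_coe (ρ : P →* Module.End F V) (U : Submodule F V)
    (hU : ∀ g, ∀ x ∈ U, ρ g x ∈ U) (g : P) (x : U) : ((subRep ρ U hU g x : U) : V) = ρ g x := rfl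

/-- Action on the quotient by an invariant subspace. -/
def quotRep (ρ : P →* Module.End F V) (U : Submodule F V) (hU : ∀ g, ∀ x ∈ U, ρ g x ∈ U) :
    P →* Module.End F (V ⧸ U) where
  toFun g := U.mapQ U (ρ g) (fun x hx => hU g x hx)
  map_one' := by
    apply LinearMap.ext
    intro x
    induction x using Submodule.Quotient.induction_on with
    | H x => simp
  map_mul' a b := by
    apply LinearMap.ext
    intro x
    induction x using Submodule.Quotient.induction_on with
    | H x => simp

theorem quotRep_mk (ρ : P →* Module.End F V) (U : Submodule F V)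
    (hU : ∀ g, ∀ x ∈ U, ρ g x ∈ U) (g : P) (x : V) :
    quotRep ρ U hU g (Submodule.Quotient.mk x) = Submodule.Quotient.mk (ρ g x) := rfl

end basics

section steps

variable {p n : ℕ} {F : Type u} [Field F] {V : Type v} [AddCommGroup V] [Module F V]
  [FiniteDimensional F V] {P : Type w} [Group P] [Finite P]

theorem step_reducible (IH : ∀ m < n, Bound.{u, v, w} p m) {k : ℕ} (hP : IsPGroup p P)
    (ρ : P →* Module.End F V) (hpF : ((p : ℕ) : F) ≠ 0) (hn : Module.finrank F V = n)
    (hk : n < p ^ k) (U : Submodule F V) (hU : ∀ g, ∀ x ∈ U, ρ g x ∈ U) (hbot : U ≠ ⊥)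
    (htop : U ≠ ⊤) (g : P) (hg : g ∈ derivedSeries P k) : ρ g = 1 := by
  have h1 : Module.finrank F U < n := hn ▸ Submodule.finrank_lt htop
  have h2 : 0 < Module.finrank F U := by
    rw [Module.finrank_pos_iff]
    exact Submodule.nontrivial_iff_ne_bot.2 hbot
  have h3 : Module.finrank F (V ⧸ U) + Module.finrank F U = n := by
    rw [← hn]
    exact Submodule.finrank_quotient_add_finrank U
  have h4 := IH _ h1 k F U P hP (subRep ρ U hU) hpF rfl (h1.trans hk) g hg
  have h5 := IH (Module.finrank F (V ⧸ U)) (by omega) k F (V ⧸ U) P hP (quotRep ρ U hU) hpF rfl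
    (by omega) g hg
  apply eq_one_of_chain hP ρ hpF g U
  · intro u hu
    have := LinearMap.congr_fun h4 ⟨u, hu⟩
    exact congrArg Subtype.val this
  · intro v
    have := LinearMap.congr_fun h5 (Submodule.Quotient.mk v)
    rw [quotRep_mk] at this
    exact (Submodule.Quotient.eq U).1 this

/-- Minimal polynomial of a central element in an irreducible representation. -/
theorem irreducible_minpoly (ρ : P →* Module.End F V) [Nontrivial V]
    (hirr : ∀ U : Submodule F V, (∀ g, ∀ x ∈ U, ρ g x ∈ U) → U = ⊥ ∨ U = ⊤)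
    (T : Module.End F V) (hT : ∀ g, Commute (ρ g) T) : Irreducible (minpoly F T) := by
  have hint : IsIntegral F T := Algebra.IsIntegral.isIntegral T
  have hmon := minpoly.monic hint
  rw [hmon.irreducible_iff_natDegree]
  constructor
  · intro h
    have := minpoly.aeval F T
    rw [h, map_one] at this
    exact one_ne_zero this
  · intro f g hf hg hfg
    by_contra hcon
    push Not at hcon
    obtain ⟨hf0, hg0⟩ := hcon
    have hdeg : (minpoly F T).natDegree = f.natDegree + g.natDegree := by
      rw [← hfg]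
      exact natDegree_mul hf.ne_zero hg.ne_zero
    have hfne : aeval T f ≠ 0 := by
      intro h
      have := minpoly.min F T hf h
      rw [degree_eq_natDegree (minpoly.ne_zero hint), degree_eq_natDegree hf.ne_zero] at this
      have h' : (minpoly F T).natDegree ≤ f.natDegree := by exact_mod_cast this
      omega
    have hgne : aeval T g ≠ 0 := by
      intro h
      have := minpoly.min F T hg h
      rw [degree_eq_natDegree (minpoly.ne_zero hint), degree_eq_natDegree hg.ne_zero] at this
      have h' : (minpoly F T).natDegree ≤ g.natDegree := by exact_mod_cast this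
      omega
    have hprod : aeval T f * aeval T g = 0 := by
      rw [← map_mul, hfg]
      exact minpoly.aeval F T
    rcases hirr (LinearMap.ker (aeval T f)) (by
      intro a x hx
      rw [LinearMap.mem_ker] at hx ⊢
      have := LinearMap.congr_fun (commute_aeval (hT a) f).eq x
      rw [Module.End.mul_apply, Module.End.mul_apply, hx, map_zero] at this
      exact this.symm) with h | h
    · apply hgne
      apply LinearMap.ext
      intro x
      have : aeval T g x ∈ LinearMap.ker (aeval T f) := by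
        rw [LinearMap.mem_ker]
        exact LinearMap.congr_fun hprod x
      rw [h, Submodule.mem_bot] at this
      exact this
    · apply hfne
      apply LinearMap.ext
      intro x
      have : x ∈ LinearMap.ker (aeval T f) := by
        rw [h]
        trivial
      exact LinearMap.mem_ker.1 this

/-- The central non-scalar step. -/
theorem step_central (IH : ∀ m < n, Bound.{u, v, w} p m) {k : ℕ} (hP : IsPGroup p P)
    (ρ : P →* Module.End F V) (hpF : ((p : ℕ) : F) ≠ 0) (hn : Module.finrank F V = n)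
    (hk : n < p ^ k) [Nontrivial V]
    (hirr : ∀ U : Submodule F V, (∀ g, ∀ x ∈ U, ρ g x ∈ U) → U = ⊥ ∨ U = ⊤)
    (T : Module.End F V) (hT : ∀ g, Commute (ρ g) T) (hns : ∀ c : F, T ≠ c • 1)
    (g : P) (hg : g ∈ derivedSeries P k) : ρ g = 1 := by
  have hint : IsIntegral F T := Algebra.IsIntegral.isIntegral T
  have hμ := irreducible_minpoly ρ hirr T hT
  set μ := minpoly F T with hμdef
  have hmon : μ.Monic := minpoly.monic hint
  have hTμ : aeval T μ = 0 := minpoly.aeval F T
  have hd2 : 2 ≤ μ.natDegree := by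
    have h1 : 0 < μ.natDegree := hμ.natDegree_pos
    by_contra h2
    have h3 : μ.natDegree = 1 := by omega
    have h4 := hmon.eq_X_add_C h3
    rw [h4] at hTμ
    simp only [map_add, aeval_X, aeval_C] at hTμ
    apply hns (-(μ.coeff 0))
    have h5 : T = -(algebraMap F (Module.End F V) (μ.coeff 0)) := eq_neg_of_add_eq_zero_left hTμ
    rw [h5, neg_smul, Module.algebraMap_end_eq_smul_id]
    rfl
  letI : Fact (Irreducible μ) := ⟨hμ⟩
  letI instM : Module (AdjoinRoot μ) V := extModule μ T hTμ
  haveI instT : IsScalarTower F (AdjoinRoot μ) V := ext_tower μ T hTμ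
  haveI : Module.Finite F (AdjoinRoot μ) := (AdjoinRoot.powerBasis hμ.ne_zero).finite
  haveI : Module.Finite (AdjoinRoot μ) V := Module.Finite.of_restrictScalars_finite F _ _
  have hdeg : Module.finrank F (AdjoinRoot μ) = μ.natDegree := finrank_quotient_span_eq_natDegree
  have hsm : ∀ (a : AdjoinRoot μ) (x : V), a • x = extHom μ T hTμ a x := fun _ _ => rfl
  let ρK : P →* Module.End (AdjoinRoot μ) V :=
    liftRep ρ (fun g a x => by
      rw [hsm, hsm]
      exact LinearMap.congr_fun (commute_extHom (hT g) μ hTμ a).eq x)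
  have hmul := Module.finrank_mul_finrank F (AdjoinRoot μ) V
  rw [hdeg, hn] at hmul
  have hnpos : 0 < n := by
    rw [← hn]
    exact Module.finrank_pos
  have hlt : Module.finrank (AdjoinRoot μ) V < n := by
    rw [← hmul]
    have : 0 < Module.finrank (AdjoinRoot μ) V := by
      by_contra h0
      have h1 : Module.finrank (AdjoinRoot μ) V = 0 := by omega
      rw [h1, mul_zero] at hmul
      omega
    nlinarith
  have hpK : ((p : ℕ) : AdjoinRoot μ) ≠ 0 := by
    have : ((p : ℕ) : AdjoinRoot μ) = algebraMap F (AdjoinRoot μ) (p : F) := by simp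
    rw [this]
    exact (map_ne_zero_iff _ (algebraMap F (AdjoinRoot μ)).injective).2 hpF
  have h := IH _ hlt k (AdjoinRoot μ) V P hP ρK hpK rfl (hlt.trans hk) g hg
  apply LinearMap.ext
  intro x
  exact LinearMap.congr_fun h x

omit [FiniteDimensional F V] [Finite P] in
/-- The derived series drops along a subgroup containing the commutator. -/
theorem derived_of_le (C : Subgroup P) (hC : commutator P ≤ C) (j : ℕ) :
    derivedSeries P (j + 1) ≤ (derivedSeries C j).map C.subtype := by
  induction j with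
  | zero =>
    rw [derivedSeries_one, derivedSeries_zero, ← MonoidHom.range_eq_map, Subgroup.range_subtype]
    exact hC
  | succ j ih =>
    rw [derivedSeries_succ, derivedSeries_succ C j, Subgroup.map_commutator]
    exact Subgroup.commutator_mono ih ih

end steps

section choose

variable {p : ℕ} [hp : Fact p.Prime] {P : Type w} [Group P] [Finite P]

theorem exists_second_center (hP : IsPGroup p P) (hna : ¬ ∀ a b : P, a * b = b * a) :
    ∃ x g₀ : P, (∀ g : P, ⁅g, x⁆ ∈ Subgroup.center P) ∧ x ^ p ∈ Subgroup.center P ∧ ⁅g₀, x⁆ ≠ 1 := by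
  classical
  have hQ : IsPGroup p (P ⧸ Subgroup.center P) := hP.to_quotient _
  haveI : Nontrivial (P ⧸ Subgroup.center P) := by
    rw [QuotientGroup.nontrivial_iff]
    intro h
    apply hna
    intro a b
    have : a ∈ Subgroup.center P := by
      rw [h]
      trivial
    exact (Subgroup.mem_center_iff.1 this b).symm
  haveI := hQ.center_nontrivial
  have hcp : IsPGroup p (Subgroup.center (P ⧸ Subgroup.center P)) :=
    hQ.to_subgroup _
  have hdvd : p ∣ Nat.card (Subgroup.center (P ⧸ Subgroup.center P)) := by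
    obtain ⟨m, hm0, hm⟩ := hcp.nontrivial_iff_card.1 inferInstance
    rw [hm]
    exact dvd_pow_self _ hm0.ne'
  obtain ⟨y, hy⟩ := exists_prime_orderOf_dvd_card' p hdvd
  obtain ⟨x, hx⟩ := QuotientGroup.mk_surjective (y : P ⧸ Subgroup.center P)
  have hycen : ∀ q : P ⧸ Subgroup.center P, q * (y : P ⧸ Subgroup.center P) = y * q :=
    fun q => (Subgroup.mem_center_iff.1 y.2 q)
  have hy1 : (y : P ⧸ Subgroup.center P) ≠ 1 := by
    intro h
    have : y = 1 := Subtype.ext h
    rw [this, orderOf_one] at hy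
    exact hp.out.ne_one hy.symm
  have hxZ : x ∉ Subgroup.center P := by
    intro h
    apply hy1
    rw [← hx]
    exact (QuotientGroup.eq_one_iff x).2 h
  rw [Subgroup.mem_center_iff] at hxZ
  push Not at hxZ
  obtain ⟨g₀, hg₀⟩ := hxZ
  refine ⟨x, g₀, ?_, ?_, ?_⟩
  · intro g
    rw [← QuotientGroup.eq_one_iff]
    rw [commutatorElement_def]
    simp only [QuotientGroup.mk_mul, QuotientGroup.mk_inv, hx]
    rw [hycen]
    group
  · rw [← QuotientGroup.eq_one_iff]
    rw [QuotientGroup.mk_pow, hx]
    have : y ^ p = 1 := by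
      rw [← hy]
      exact pow_orderOf_eq_one y
    exact congrArg Subtype.val this
  · intro h
    apply hg₀
    rw [commutatorElement_def] at h
    have h2 : g₀ * x * g₀⁻¹ = x := by
      have := mul_inv_eq_one.1 h
      exact this
    exact mul_inv_eq_iff_eq_mul.1 h2

theorem comm_mem_centralizer {x : P} (h : ∀ g : P, ⁅g, x⁆ ∈ Subgroup.center P) :
    commutator P ≤ Subgroup.centralizer ({x} : Set P) := by
  have hcen : ∀ (z : P), z ∈ Subgroup.center P → ∀ g : P, g * z = z * g :=
    fun z hz g => (Subgroup.mem_center_iff.1 hz g)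
  have h1 : ∀ g : P, g * x * g⁻¹ = ⁅g, x⁆ * x := by
    intro g
    rw [commutatorElement_def]
    group
  have hmul : ∀ a b : P, ⁅a * b, x⁆ = ⁅a, x⁆ * ⁅b, x⁆ := by
    intro a b
    have h2 : (a * b) * x * (a * b)⁻¹ = ⁅b, x⁆ * ⁅a, x⁆ * x := by
      calc (a * b) * x * (a * b)⁻¹ = a * (b * x * b⁻¹) * a⁻¹ := by group
        _ = a * (⁅b, x⁆ * x) * a⁻¹ := by rw [h1]
        _ = (a * ⁅b, x⁆) * x * a⁻¹ := by group
        _ = (⁅b, x⁆ * a) * x * a⁻¹ := by rw [hcen _ (h b) a]
        _ = ⁅b, x⁆ * (a * x * a⁻¹) := by group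
        _ = ⁅b, x⁆ * ⁅a, x⁆ * x := by rw [h1]; group
    rw [h1] at h2
    have h3 := mul_right_cancel h2
    rw [h3]
    exact (hcen _ (h a) _)
  have hone : ⁅(1 : P), x⁆ = 1 := by simp
  have hinv : ∀ a : P, ⁅a⁻¹, x⁆ = ⁅a, x⁆⁻¹ := by
    intro a
    have := hmul a⁻¹ a
    rw [inv_mul_cancel, hone] at this
    exact (eq_inv_of_mul_eq_one_left this.symm)
  have hmain : ∀ a b : P, ⁅⁅a, b⁆, x⁆ = 1 := by
    intro a b
    have h4 : ⁅a, b⁆ = a * b * a⁻¹ * b⁻¹ := commutatorElement_def a b
    rw [h4, hmul, hmul, hmul, hinv, hinv]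
    have h5 : ⁅a, x⁆ * ⁅b, x⁆ = ⁅b, x⁆ * ⁅a, x⁆ := (hcen _ (h b) _)
    rw [h5]
    group
  rw [commutator_def, Subgroup.commutator_le]
  intro a _ b _
  rw [Subgroup.mem_centralizer_singleton_iff]
  have h6 := hmain a b
  rw [commutatorElement_def] at h6
  have h7 := mul_inv_eq_one.1 h6
  exact mul_inv_eq_iff_eq_mul.1 h7

end choose

section cases

variable {p n : ℕ} [hp : Fact p.Prime] {F : Type u} [Field F] {V : Type v} [AddCommGroup V]
  [Module F V] [FiniteDimensional F V] {P : Type w} [Group P] [Finite P]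

omit [hp : Fact p.Prime] in
theorem sum_finrank_le {ι : Type*} [Fintype ι] (E : ι → Submodule F V) (h : iSupIndep E) :
    ∑ i, Module.finrank F (E i) ≤ Module.finrank F V := by
  classical
  have hinj := h.dfinsupp_lsum_injective
  have := LinearMap.finrank_le_finrank_of_injective hinj
  have h2 : Module.finrank F (Π₀ i, E i) = ∑ i, Module.finrank F (E i) :=
    Module.finrank_directSum F (fun i => E i)
  rwa [h2] at this

theorem step_caseA (IH : ∀ m < n, Bound.{u, v, w} p m) {k : ℕ} (hP : IsPGroup p P)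
    (ρ : P →* Module.End F V) (hpF : ((p : ℕ) : F) ≠ 0) (hn : Module.finrank F V = n)
    (hk : n < p ^ (k + 1)) [Nontrivial V] (x : P) (a : F) (hxa : ρ (x ^ p) = a • 1)
    (ha : ∀ b : F, b ^ p ≠ a) (Cx : Subgroup P) (hCxdef : Cx = Subgroup.centralizer ({x} : Set P))
    (h : ↥Cx) (hh : h ∈ derivedSeries ↥Cx k) : ρ (h : P) = 1 := by
  have hpp : p.Prime := hp.out
  set f : F[X] := X ^ p - C a with hf
  have hfi : Irreducible f := X_pow_sub_C_irreducible_of_prime hpp ha
  set T : Module.End F V := ρ x with hT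
  have hTf : aeval T f = 0 := by
    rw [hf, map_sub, map_pow, aeval_X, aeval_C, Module.algebraMap_end_eq_smul_id, hT, ← map_pow, hxa]
    exact sub_eq_zero.2 rfl
  have hcomm : ∀ g : ↥Cx, Commute (ρ (g : P)) T := by
    intro g
    have hg : (g : P) ∈ Subgroup.centralizer ({x} : Set P) := hCxdef ▸ g.2
    have := Subgroup.mem_centralizer_singleton_iff.1 hg
    show ρ (g : P) * ρ x = ρ x * ρ (g : P)
    rw [← map_mul, ← map_mul, this]
  letI : Fact (Irreducible f) := ⟨hfi⟩
  letI instM : Module (AdjoinRoot f) V := extModule f T hTf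
  haveI instT : IsScalarTower F (AdjoinRoot f) V := ext_tower f T hTf
  haveI : Module.Finite F (AdjoinRoot f) := (AdjoinRoot.powerBasis hfi.ne_zero).finite
  haveI : Module.Finite (AdjoinRoot f) V := Module.Finite.of_restrictScalars_finite F _ _
  have hdeg : Module.finrank F (AdjoinRoot f) = p := by
    have : Module.finrank F (AdjoinRoot f) = f.natDegree := finrank_quotient_span_eq_natDegree
    rw [this, hf, natDegree_X_pow_sub_C]
  have hsm : ∀ (a : AdjoinRoot f) (x : V), a • x = extHom f T hTf a x := fun _ _ => rfl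
  let ρK : ↥Cx →* Module.End (AdjoinRoot f) V :=
    liftRep (ρ.comp Cx.subtype) (fun g a x => by
      rw [hsm, hsm]
      exact LinearMap.congr_fun (commute_extHom (hcomm g) f hTf a).eq x)
  have hmul := Module.finrank_mul_finrank F (AdjoinRoot f) V
  rw [hdeg, hn] at hmul
  have hnpos : 0 < n := by
    rw [← hn]
    exact Module.finrank_pos
  have hp2 := hpp.two_le
  have hlt : Module.finrank (AdjoinRoot f) V < n := by
    rw [← hmul]
    have : 0 < Module.finrank (AdjoinRoot f) V := by
      by_contra h0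
      have h1 : Module.finrank (AdjoinRoot f) V = 0 := by omega
      rw [h1, mul_zero] at hmul
      omega
    nlinarith
  have hlt2 : Module.finrank (AdjoinRoot f) V < p ^ k := by
    rw [← hmul, pow_succ'] at hk
    exact Nat.lt_of_mul_lt_mul_left hk
  have hpK : ((p : ℕ) : AdjoinRoot f) ≠ 0 := by
    have : ((p : ℕ) : AdjoinRoot f) = algebraMap F (AdjoinRoot f) (p : F) := by simp
    rw [this]
    exact (map_ne_zero_iff _ (algebraMap F (AdjoinRoot f)).injective).2 hpF
  have h' := IH _ hlt k (AdjoinRoot f) V ↥Cx (hP.to_subgroup Cx) ρK hpK rfl hlt2 h hh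
  apply LinearMap.ext
  intro v
  exact LinearMap.congr_fun h' v

theorem step_caseB (IH : ∀ m < n, Bound.{u, v, w} p m) {k : ℕ} (hP : IsPGroup p P)
    (ρ : P →* Module.End F V) (hpF : ((p : ℕ) : F) ≠ 0) (hn : Module.finrank F V = n)
    (hk : n < p ^ (k + 1)) [Nontrivial V]
    (hirr : ∀ U : Submodule F V, (∀ g, ∀ x ∈ U, ρ g x ∈ U) → U = ⊥ ∨ U = ⊤)
    (x g₀ : P) (hcent : ∀ g : P, ⁅g, x⁆ ∈ Subgroup.center P) (ζ b : F)
    (hζ : ρ ⁅g₀, x⁆ = ζ • 1) (hζp : IsPrimitiveRoot ζ p) (hxa : ρ (x ^ p) = (b ^ p) • 1)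
    (Cx : Subgroup P) (hCxdef : Cx = Subgroup.centralizer ({x} : Set P))
    (h : ↥Cx) (hh : h ∈ derivedSeries ↥Cx k) : ρ (h : P) = 1 := by
  classical
  have hpp : p.Prime := hp.out
  have hp2 := hpp.two_le
  have hnpos : 0 < n := by
    rw [← hn]
    exact Module.finrank_pos
  set T : Module.End F V := ρ x with hT
  have hinvρ : ∀ g : P, ∀ v, ρ g⁻¹ (ρ g v) = v := by
    intro g v
    rw [← Module.End.mul_apply, ← map_mul, inv_mul_cancel, map_one]
    rfl
  have hinvρ' : ∀ g : P, ∀ v, ρ g (ρ g⁻¹ v) = v := by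
    intro g v
    rw [← Module.End.mul_apply, ← map_mul, mul_inv_cancel, map_one]
    rfl
  have hinjρ : ∀ g : P, Function.Injective (ρ g) := fun g =>
    Function.LeftInverse.injective (hinvρ g)
  -- product formula
  have hprodpoly := X_pow_sub_C_eq_prod hζp hpp.pos (rfl : b ^ p = b ^ p)
  have haev : aeval T (X ^ p - C (b ^ p) : F[X]) = 0 := by
    rw [map_sub, map_pow, aeval_X, aeval_C, Module.algebraMap_end_eq_smul_id, hT, ← map_pow, hxa]
    exact sub_eq_zero.2 rfl
  obtain ⟨i₀, -, hi₀⟩ : ∃ i ∈ Finset.range p, ¬ Function.Injective (aeval T (X - C (ζ ^ i * b) : F[X])) := by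
    by_contra hcon
    push Not at hcon
    have hind : ∀ S : Finset ℕ, S ⊆ Finset.range p →
        Function.Injective (aeval T (∏ i ∈ S, (X - C (ζ ^ i * b)) : F[X])) := by
      intro S
      induction S using Finset.induction_on with
      | empty =>
        intro _
        simp only [Finset.prod_empty, map_one]
        exact Function.injective_id
      | insert i S hi ih =>
        intro hS
        rw [Finset.prod_insert hi, map_mul]
        exact (hcon i (hS (Finset.mem_insert_self _ _))).comp
          (ih (fun j hj => hS (Finset.mem_insert_of_mem hj)))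
    have h1 := hind _ (Finset.Subset.refl _)
    rw [← hprodpoly, haev] at h1
    obtain ⟨v, hv⟩ := exists_ne (0 : V)
    exact hv (h1 rfl)
  set lam : F := ζ ^ i₀ * b with hlam
  have hV₀ne : Module.End.eigenspace T lam ≠ ⊥ := by
    rw [injective_iff_map_eq_zero] at hi₀
    push Not at hi₀
    obtain ⟨v, hv, hv0⟩ := hi₀
    intro h0
    apply hv0
    have : v ∈ Module.End.eigenspace T lam := by
      rw [Module.End.mem_eigenspace_iff]
      simp only [map_sub, aeval_X, aeval_C, LinearMap.sub_apply, Module.algebraMap_end_apply] at hv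
      exact sub_eq_zero.1 hv
    rw [h0, Submodule.mem_bot] at this
    exact this
  clear_value lam
  have hrel : ∀ v, ρ g₀ (T v) = ζ • T (ρ g₀ v) := by
    intro v
    have h1 : g₀ * x = ⁅g₀, x⁆ * (x * g₀) := by
      rw [commutatorElement_def]
      group
    have h2 := LinearMap.congr_fun (congrArg ρ h1) v
    rw [map_mul, map_mul, map_mul, hζ] at h2
    simpa using h2
  have hζ0 : ζ ≠ 0 := hζp.ne_zero hpp.ne_zero
  have hstep : ∀ μ : F, Module.finrank F (Module.End.eigenspace T μ)
      ≤ Module.finrank F (Module.End.eigenspace T (ζ⁻¹ * μ)) := by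
    intro μ
    have hm : ∀ v ∈ Module.End.eigenspace T μ, ρ g₀ v ∈ Module.End.eigenspace T (ζ⁻¹ * μ) := by
      intro v hv
      rw [Module.End.mem_eigenspace_iff] at hv ⊢
      have h1 := hrel v
      rw [hv, map_smul] at h1
      have h2 : T (ρ g₀ v) = ζ⁻¹ • (μ • ρ g₀ v) := by
        rw [h1, smul_smul, inv_mul_cancel₀ hζ0, one_smul]
      rw [h2, smul_smul]
    let L : Module.End.eigenspace T μ →ₗ[F] Module.End.eigenspace T (ζ⁻¹ * μ) :=
      (ρ g₀).restrict hm
    apply LinearMap.finrank_le_finrank_of_injective (f := L)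
    intro a b hab
    apply Subtype.ext
    apply hinjρ g₀
    exact congrArg Subtype.val hab
  set d := Module.finrank F (Module.End.eigenspace T lam) with hd
  have hstepi : ∀ i : ℕ, d ≤ Module.finrank F (Module.End.eigenspace T ((ζ⁻¹) ^ i * lam)) := by
    intro i
    induction i with
    | zero => rw [pow_zero, one_mul]
    | succ i ih =>
      refine ih.trans ?_
      have := hstep ((ζ⁻¹) ^ i * lam)
      rwa [← mul_assoc, ← pow_succ'] at this
  have hlam0 : lam ≠ 0 := by
    intro h0
    rw [h0] at hV₀ne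
    apply hV₀ne
    rw [Submodule.eq_bot_iff]
    intro v hv
    rw [Module.End.mem_eigenspace_iff, zero_smul] at hv
    have := hinvρ x v
    rw [show ρ x v = 0 from hv, map_zero] at this
    exact this.symm
  have hθ : IsPrimitiveRoot ζ⁻¹ p := hζp.inv
  have hindep : iSupIndep (fun i : Fin p => Module.End.eigenspace T ((ζ⁻¹) ^ (i : ℕ) * lam)) := by
    have hi : Function.Injective (fun i : Fin p => (ζ⁻¹) ^ (i : ℕ) * lam) := by
      intro i j hij
      have h1 : (ζ⁻¹) ^ (i : ℕ) = (ζ⁻¹) ^ (j : ℕ) := mul_right_cancel₀ hlam0 hij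
      exact Fin.ext (hθ.pow_inj i.2 j.2 h1)
    exact (Module.End.eigenspaces_iSupIndep T).comp hi
  have hsum := sum_finrank_le _ hindep
  have hpd : p * d ≤ n := by
    rw [hn] at hsum
    refine le_trans ?_ hsum
    calc p * d = ∑ _i : Fin p, d := by simp
      _ ≤ _ := Finset.sum_le_sum (fun i _ => hstepi i)
  have hdlt : d < n := by nlinarith
  have hdlt2 : d < p ^ k := by
    have : p * d < p * p ^ k := by
      rw [← pow_succ']
      exact lt_of_le_of_lt hpd hk
    exact Nat.lt_of_mul_lt_mul_left this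
  have hcommle : commutator P ≤ Cx := hCxdef ▸ comm_mem_centralizer hcent
  have hconj : ∀ (c : P), c ∈ Cx → ∀ g : P, g⁻¹ * c * g ∈ Cx := by
    intro c hc g
    have h1 : g⁻¹ * c * g = ⁅g⁻¹, c⁆ * c := by
      rw [commutatorElement_def]
      group
    rw [h1]
    apply Cx.mul_mem _ hc
    apply hcommle
    exact Subgroup.commutator_mem_commutator (Subgroup.mem_top _) (Subgroup.mem_top _)
  have hcommT : ∀ c ∈ Cx, ∀ v, T (ρ c v) = ρ c (T v) := by
    intro c hc v
    have hc' : c ∈ Subgroup.centralizer ({x} : Set P) := hCxdef ▸ hc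
    have := Subgroup.mem_centralizer_singleton_iff.1 hc'
    have h2 := LinearMap.congr_fun (congrArg ρ this) v
    simp only [map_mul, Module.End.mul_apply] at h2
    exact h2.symm
  have heigen : ∀ c ∈ Cx, ∀ v ∈ Module.End.eigenspace T lam,
      ρ c v ∈ Module.End.eigenspace T lam := by
    intro c hc v hv
    rw [Module.End.mem_eigenspace_iff] at hv ⊢
    rw [hcommT c hc, hv, map_smul]
  -- the translates
  have hfixW : ∀ g : P, ∀ v ∈ Module.End.eigenspace T lam, ρ (h : P) (ρ g v) = ρ g v := by
    intro g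
    set W := (Module.End.eigenspace T lam).map (ρ g) with hW
    have hWinv : ∀ c : ↥Cx, ∀ w ∈ W, (ρ.comp Cx.subtype) c w ∈ W := by
      intro c w hw
      obtain ⟨v, hv, rfl⟩ := hw
      refine ⟨ρ (g⁻¹ * c * g) v, heigen _ (hconj c c.2 g) v hv, ?_⟩
      show ρ g (ρ (g⁻¹ * c * g) v) = ρ (c : P) (ρ g v)
      rw [← Module.End.mul_apply, ← map_mul, ← Module.End.mul_apply, ← map_mul]
      congr 2
      group
    have hWle : Module.finrank F W ≤ d := Submodule.finrank_map_le _ _
    have h1 := IH (Module.finrank F W) (lt_of_le_of_lt hWle hdlt) k F W ↥Cx (hP.to_subgroup Cx)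
      (subRep (ρ.comp Cx.subtype) W hWinv) hpF rfl (lt_of_le_of_lt hWle hdlt2) h hh
    intro v hv
    have h2 := LinearMap.congr_fun h1 ⟨ρ g v, v, hv, rfl⟩
    exact congrArg Subtype.val h2
  set S : Submodule F V := ⨆ g : P, (Module.End.eigenspace T lam).map (ρ g) with hS
  have hSinv : ∀ a, ∀ v ∈ S, ρ a v ∈ S := by
    intro a v hv
    have h1 : S.map (ρ a) ≤ S := by
      rw [hS, Submodule.map_iSup]
      apply iSup_le
      intro g
      rw [← Submodule.map_comp]
      have : (ρ a).comp (ρ g) = ρ (a * g) := by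
        rw [map_mul]
        rfl
      rw [this]
      exact le_iSup (fun g : P => (Module.End.eigenspace T lam).map (ρ g)) (a * g)
    exact h1 ⟨v, hv, rfl⟩
  have hStop : S = ⊤ := by
    rcases hirr S hSinv with h0 | h0
    · exfalso
      apply hV₀ne
      rw [Submodule.eq_bot_iff]
      intro v hv
      have h1 : ρ 1 v ∈ S := by
        rw [hS]
        exact Submodule.mem_iSup_of_mem (1 : P) ⟨v, hv, rfl⟩
      rw [h0, Submodule.mem_bot, map_one] at h1
      exact h1
    · exact h0
  have hSfix : S ≤ LinearMap.ker (ρ (h : P) - 1) := by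
    rw [hS]
    apply iSup_le
    intro g
    rintro _ ⟨v, hv, rfl⟩
    rw [LinearMap.mem_ker, LinearMap.sub_apply, hfixW g v hv, sub_eq_zero]
    rfl
  apply LinearMap.ext
  intro v
  have h2 : v ∈ LinearMap.ker (ρ (h : P) - 1) := by
    apply hSfix
    rw [hStop]
    trivial
  rw [LinearMap.mem_ker, LinearMap.sub_apply, sub_eq_zero] at h2
  exact h2

theorem step_faithful (IH : ∀ m < n, Bound.{u, v, w} p m) {k : ℕ} (hP : IsPGroup p P)
    (ρ : P →* Module.End F V) (hinj : Function.Injective ρ) (hpF : ((p : ℕ) : F) ≠ 0)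
    (hn : Module.finrank F V = n) (hk : n < p ^ k) [Nontrivial V]
    (hirr : ∀ U : Submodule F V, (∀ g, ∀ x ∈ U, ρ g x ∈ U) → U = ⊥ ∨ U = ⊤) :
    derivedSeries P k = ⊥ := by
  classical
  have hpp : p.Prime := hp.out
  have hnpos : 0 < n := by
    rw [← hn]
    exact Module.finrank_pos
  obtain ⟨k', rfl⟩ : ∃ k', k = k' + 1 := by
    rcases k with _ | k'
    · simp at hk
      omega
    · exact ⟨k', rfl⟩
  by_cases hab : ∀ a b : P, a * b = b * a
  · have h1 : derivedSeries P 1 = ⊥ := by
      rw [derivedSeries_one, commutator_def, eq_bot_iff, Subgroup.commutator_le]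
      intro a _ b _
      rw [Subgroup.mem_bot, commutatorElement_def, hab a b]
      group
    exact le_bot_iff.1 (h1 ▸ derivedSeries_antitone P (by omega : 1 ≤ k' + 1))
  by_cases hns : ∃ z ∈ Subgroup.center P, ∀ c : F, ρ z ≠ c • 1
  · obtain ⟨z, hz, hzns⟩ := hns
    rw [Subgroup.eq_bot_iff_forall]
    intro g hg
    apply hinj
    rw [map_one]
    refine step_central IH hP ρ hpF hn hk hirr (ρ z) ?_ hzns g hg
    intro a
    show ρ a * ρ z = ρ z * ρ a
    rw [← map_mul, ← map_mul, (Subgroup.mem_center_iff.1 hz a)]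
  push Not at hns
  obtain ⟨x, g₀, hcent, hxp, hg₀⟩ := exists_second_center hP hab
  obtain ⟨ζ, hζ⟩ := hns _ (hcent g₀)
  obtain ⟨a, ha⟩ := hns _ hxp
  have hscalinj : ∀ c d : F, c • (1 : Module.End F V) = d • 1 → c = d := by
    intro c d h
    have h1 : (c - d) • (1 : Module.End F V) = 0 := by
      rw [sub_smul, h, sub_self]
    have h2 := (smul_eq_zero.1 h1).resolve_right one_ne_zero
    exact sub_eq_zero.1 h2
  have hζ1 : ζ ≠ 1 := by
    intro h
    apply hg₀
    apply hinj
    rw [hζ, h, one_smul, map_one]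
  have hcp : ⁅g₀, x⁆ ^ p = 1 := by
    set c := ⁅g₀, x⁆ with hc
    have h1 : g₀ * x * g₀⁻¹ = c * x := by
      rw [hc, commutatorElement_def]
      group
    have h2 : (g₀ * x * g₀⁻¹) ^ p = g₀ * x ^ p * g₀⁻¹ := by
      rw [conj_pow]
    have h3 : g₀ * x ^ p * g₀⁻¹ = x ^ p := by
      rw [(Subgroup.mem_center_iff.1 hxp g₀)]
      group
    have h4 : Commute c x := (Subgroup.mem_center_iff.1 (hcent g₀) x).symm
    rw [h1, h3, h4.mul_pow] at h2
    exact mul_eq_right.1 h2
  have hζp : ζ ^ p = 1 := by
    have h1 : ρ (⁅g₀, x⁆ ^ p) = (ζ ^ p) • 1 := by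
      rw [map_pow, hζ, _root_.smul_pow, one_pow]
    rw [hcp, map_one] at h1
    apply hscalinj
    rw [← h1, one_smul]
  have hprim : IsPrimitiveRoot ζ p := by
    have h1 : orderOf ζ = p := by
      haveI := hp
      exact orderOf_eq_prime hζp hζ1
    rw [← h1]
    exact IsPrimitiveRoot.orderOf ζ
  have hCx : ∀ h : ↥(Subgroup.centralizer ({x} : Set P)),
      h ∈ derivedSeries ↥(Subgroup.centralizer ({x} : Set P)) k' → ρ (h : P) = 1 := by
    intro h hh
    by_cases hb : ∃ b : F, b ^ p = a
    · obtain ⟨b, rfl⟩ := hb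
      exact step_caseB IH hP ρ hpF hn hk hirr x g₀ hcent ζ b hζ hprim ha _ rfl h hh
    · push Not at hb
      exact step_caseA IH hP ρ hpF hn hk x a ha hb _ rfl h hh
  have hbot : derivedSeries ↥(Subgroup.centralizer ({x} : Set P)) k' = ⊥ := by
    rw [Subgroup.eq_bot_iff_forall]
    intro h hh
    apply Subtype.ext
    apply hinj
    rw [hCx h hh, Subgroup.coe_one, map_one]
  have := derived_of_le (Subgroup.centralizer ({x} : Set P)) (comm_mem_centralizer hcent) k'
  rw [hbot, Subgroup.map_bot] at this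
  exact le_bot_iff.1 this

end cases

/-- The main theorem. -/
theorem bound (p : ℕ) [hp : Fact p.Prime] (n : ℕ) : Bound.{u, v, w} p n := by
  classical
  induction n using Nat.strong_induction_on with
  | _ n IH =>
    intro k F _ V _ _ _ P _ _ hP ρ hpF hn hk g hg
    by_cases hV : Nontrivial V
    swap
    · rw [not_nontrivial_iff_subsingleton] at hV
      apply LinearMap.ext
      intro v
      exact Subsingleton.elim _ _
    by_cases hred : ∃ U : Submodule F V, (∀ g, ∀ x ∈ U, ρ g x ∈ U) ∧ U ≠ ⊥ ∧ U ≠ ⊤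
    · obtain ⟨U, hU, h1, h2⟩ := hred
      exact step_reducible IH hP ρ hpF hn hk U hU h1 h2 g hg
    have hirr : ∀ U : Submodule F V, (∀ g, ∀ x ∈ U, ρ g x ∈ U) → U = ⊥ ∨ U = ⊤ := by
      intro U hU
      by_contra hcon
      push Not at hcon
      exact hred ⟨U, hU, hcon.1, hcon.2⟩
    let D := ρ.ker
    let ρQ : (P ⧸ D) →* Module.End F V := QuotientGroup.lift D ρ le_rfl
    have hρQ : ∀ a : P, ρQ (a : P ⧸ D) = ρ a := fun _ => rfl
    have hQinj : Function.Injective ρQ := by
      intro a b hab
      induction a using QuotientGroup.induction_on with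
      | H a =>
        induction b using QuotientGroup.induction_on with
        | H b =>
          rw [hρQ, hρQ] at hab
          rw [QuotientGroup.eq, MonoidHom.mem_ker, map_mul, ← hab]
          rw [← map_mul, inv_mul_cancel, map_one]
    have hQirr : ∀ U : Submodule F V, (∀ g, ∀ x ∈ U, ρQ g x ∈ U) → U = ⊥ ∨ U = ⊤ :=
      fun U hU => hirr U (fun a x hx => hU (a : P ⧸ D) x hx)
    have hb := step_faithful IH (hP.to_quotient D) ρQ hQinj hpF hn hk hQirr
    have h1 : (g : P ⧸ D) ∈ derivedSeries (P ⧸ D) k :=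
      map_derivedSeries_le_derivedSeries (QuotientGroup.mk' D) k ⟨g, hg, rfl⟩
    rw [hb, Subgroup.mem_bot] at h1
    have h2 := (QuotientGroup.eq_one_iff g).1 h1
    exact MonoidHom.mem_ker.1 h2

end Cfsg.Agent.Lib.FrobRep.PLinear
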