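import Mathlib
import Cfsg.Agent.Lib.FrobRep.PLinear

/-!
# Derived length of `p`-subgroups of linear groups in characteristic `p`
-/

set_option autoImplicit false
set_option linter.style.haveILetI false

open scoped commutatorElement

universe u v w

namespace Cfsg.Agent.Lib.FrobRep.PLinear

variable {p : ℕ} [hp : Fact p.Prime] {F : Type u} [Field F] {V : Type v} [AddCommGroup V] [Module F V]
  [FiniteDimensional F V] {P : Type w} [Group P] [Finite P]

/-- A unipotent endomorphism of a nonzero space has a nonzero fixed vector. -/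
theorem exists_fixed_of_pow_eq_one {W : Type*} [AddCommGroup W] [Module F W] [Nontrivial W]
    (hpF : ((p : ℕ) : F) = 0) (T : Module.End F W) (a : ℕ) (hT : T ^ (p ^ a) = 1) :
    ∃ w : W, w ≠ 0 ∧ T w = w := by
  haveI : CharP F p := by
    rw [CharP.charP_iff_prime_eq_zero hp.out]
    exact hpF
  have hsub : (T - 1) ^ (p ^ a) = 0 := by
    haveI : CharP (Module.End F W) p :=
      charP_of_injective_algebraMap (algebraMap F (Module.End F W)).injective p
    have : (T - 1) ^ p ^ a = T ^ p ^ a - 1 ^ p ^ a :=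
      sub_pow_char_pow_of_commute _ _ (Commute.one_right T)
    rw [this, hT, one_pow, sub_self]
  by_contra hcon
  push Not at hcon
  have hinj : Function.Injective ⇑(T - 1 : Module.End F W) := by
    rw [injective_iff_map_eq_zero]
    intro w hw
    by_contra hw0
    apply hcon w hw0
    exact sub_eq_zero.1 hw
  have h2 : ∀ j : ℕ, Function.Injective ⇑((T - 1 : Module.End F W) ^ j) := by
    intro j
    induction j with
    | zero => exact Function.injective_id
    | succ j ih =>
      rw [pow_succ]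
      exact ih.comp hinj
  have h1 := h2 (p ^ a)
  rw [hsub] at h1
  obtain ⟨w, hw0⟩ := exists_ne (0 : W)
  exact hw0 (h1 rfl)

/-- A vector fixed by `H` and by `x` is fixed by `H ⊔ ⟨x⟩`. -/
theorem fixed_sup (ρ : P →* Module.End F V) (H : Subgroup P) (x : P) (w : V)
    (hH : ∀ g ∈ H, ρ g w = w) (hx : ρ x w = w) : ∀ g ∈ H ⊔ Subgroup.zpowers x, ρ g w = w := by
  intro g hg
  have hinv : ∀ a, ρ a w = w → ρ a⁻¹ w = w := by
    intro a ha
    have := congrArg (ρ a⁻¹) ha
    rw [← Module.End.mul_apply, ← map_mul, inv_mul_cancel, map_one] at this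
    exact this.symm
  rw [Subgroup.sup_eq_closure] at hg
  induction hg using Subgroup.closure_induction with
  | mem g hg =>
    rcases hg with hg | hg
    · exact hH g hg
    · obtain ⟨m, rfl⟩ := hg
      have h1 : ∀ j : ℕ, ρ (x ^ j) w = w := by
        intro j
        induction j with
        | zero => simp
        | succ j ih2 =>
          rw [pow_succ', map_mul, Module.End.mul_apply, ih2, hx]
      show ρ (x ^ m) w = w
      cases m with
      | ofNat j => simpa using h1 j
      | negSucc j =>
        have := hinv _ (h1 (j + 1))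
        simpa using this
  | one => simp
  | mul a b _ _ ha hb => rw [map_mul, Module.End.mul_apply, hb, ha]
  | inv a _ ha => exact hinv a ha

/-- The subspace fixed by a subgroup. -/
def fixSub (ρ : P →* Module.End F V) (H : Subgroup P) : Submodule F V where
  carrier := {w | ∀ g ∈ H, ρ g w = w}
  add_mem' := fun {a b} ha hb g hg => by rw [map_add, ha g hg, hb g hg]
  zero_mem' := fun g _ => map_zero _
  smul_mem' := fun c a ha g hg => by rw [map_smul, ha g hg]

theorem exists_fixed_step (hP : IsPGroup p P) (ρ : P →* Module.End F V) (hpF : ((p : ℕ) : F) = 0)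
    (H : Subgroup P) (x : P) (hxn : x ∈ Subgroup.normalizer (H : Set P))
    (v : V) (hv0 : v ≠ 0) (hv : ∀ g ∈ H, ρ g v = v) :
    ∃ w : V, w ≠ 0 ∧ (∀ g ∈ H, ρ g w = w) ∧ ρ x w = w := by
  have hxW : ∀ w ∈ fixSub ρ H, ρ x w ∈ fixSub ρ H := by
    intro w hw g hg
    have h1 : x⁻¹ * g * x ∈ H := by
      have := (Subgroup.mem_normalizer_iff.1 (Subgroup.inv_mem _ hxn) g).1 hg
      simpa using this
    have h2 := hw _ h1
    calc ρ g (ρ x w) = ρ x (ρ (x⁻¹ * g * x) w) := by
          rw [← Module.End.mul_apply, ← map_mul, ← Module.End.mul_apply, ← map_mul]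
          congr 2
          group
      _ = ρ x w := by rw [h2]
  obtain ⟨a, ha⟩ := hP x
  haveI : Nontrivial (fixSub ρ H) := by
    refine ⟨⟨⟨v, hv⟩, 0, ?_⟩⟩
    intro h
    exact hv0 (congrArg Subtype.val h)
  have hTpow : ((ρ x).restrict hxW) ^ (p ^ a) = 1 := by
    apply LinearMap.ext
    intro w
    apply Subtype.ext
    have h1 : ∀ j : ℕ, ((((ρ x).restrict hxW ^ j) w : fixSub ρ H) : V) = (ρ x ^ j) (w : V) := by
      intro j
      induction j with
      | zero => rfl
      | succ j ih =>
        rw [pow_succ', pow_succ', Module.End.mul_apply, Module.End.mul_apply, ← ih]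
        rfl
    rw [h1, ← map_pow, ha, map_one]
    rfl
  obtain ⟨w, hw0, hTw⟩ := exists_fixed_of_pow_eq_one hpF ((ρ x).restrict hxW) a hTpow
  refine ⟨w, fun h => hw0 (Subtype.ext h), w.2, congrArg Subtype.val hTw⟩

/-- A `p`-group fixes a nonzero vector of a nonzero space in characteristic `p`. -/
theorem exists_fixed_vector (hP : IsPGroup p P) (ρ : P →* Module.End F V) (hpF : ((p : ℕ) : F) = 0)
    [Nontrivial V] : ∃ v : V, v ≠ 0 ∧ ∀ g, ρ g v = v := by
  classical
  haveI hnil : Group.IsNilpotent P := hP.isNilpotent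
  have hnc : NormalizerCondition P := normalizerCondition_of_isNilpotent
  have hmain : ∀ H : Subgroup P, (∃ v : V, v ≠ 0 ∧ ∀ g ∈ H, ρ g v = v) →
      ∃ v : V, v ≠ 0 ∧ ∀ g ∈ (⊤ : Subgroup P), ρ g v = v := by
    intro H
    induction H using WellFoundedGT.induction with
    | _ H ih =>
      intro hH
      by_cases htop : H = ⊤
      · rwa [htop] at hH
      obtain ⟨v, hv0, hv⟩ := hH
      have hlt : H < Subgroup.normalizer (H : Set P) := hnc H (lt_top_iff_ne_top.2 htop)
      obtain ⟨x, hxn, hxH⟩ := SetLike.exists_of_lt hlt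
      obtain ⟨w, hw0, hwH, hwx⟩ := exists_fixed_step hP ρ hpF H x hxn v hv0 hv
      apply ih (H ⊔ Subgroup.zpowers x)
      · refine lt_of_le_of_ne le_sup_left ?_
        intro h
        apply hxH
        rw [h]
        exact Subgroup.mem_sup_right (Subgroup.mem_zpowers x)
      · exact ⟨w, hw0, fixed_sup ρ H x w hwH hwx⟩
  obtain ⟨v, hv0⟩ := exists_ne (0 : V)
  obtain ⟨w, hw0, hw⟩ := hmain ⊥ ⟨v, hv0, fun g hg => by
    rw [Subgroup.mem_bot] at hg
    rw [hg, map_one]
    rfl⟩
  exact ⟨w, hw0, fun g => hw g (Subgroup.mem_top g)⟩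

/-- The ascending filtration. -/
def upF (ρ : P →* Module.End F V) : ℕ → Submodule F V
  | 0 => ⊥
  | i + 1 =>
    { carrier := {v | ∀ g, ρ g v - v ∈ upF ρ i}
      add_mem' := fun {a b} ha hb g => by
        have := (upF ρ i).add_mem (ha g) (hb g)
        rw [map_add]
        convert this using 1
        abel
      zero_mem' := fun g => by simp
      smul_mem' := fun c a ha g => by
        have := (upF ρ i).smul_mem c (ha g)
        rw [map_smul]
        rwa [smul_sub] at this }

theorem mem_upF_succ (ρ : P →* Module.End F V) (i : ℕ) (v : V) :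
    v ∈ upF ρ (i + 1) ↔ ∀ g, ρ g v - v ∈ upF ρ i := Iff.rfl

theorem upF_le_succ (ρ : P →* Module.End F V) (i : ℕ) : upF ρ i ≤ upF ρ (i + 1) := by
  induction i with
  | zero => exact bot_le
  | succ i ih =>
    intro v hv g
    exact ih (hv g)

theorem upF_mono (ρ : P →* Module.End F V) : Monotone (upF ρ) :=
  monotone_nat_of_le_succ (upF_le_succ ρ)

theorem upF_inv (ρ : P →* Module.End F V) (i : ℕ) (h : P) (v : V) (hv : v ∈ upF ρ i) :
    ρ h v ∈ upF ρ i := by
  induction i generalizing v with
  | zero =>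
    have : v = 0 := hv
    rw [this, map_zero]
    exact Submodule.zero_mem _
  | succ i ih =>
    intro g
    have h1 := hv (g * h)
    have h2 := hv h
    have h3 := (upF ρ i).sub_mem h1 h2
    have h4 : ρ g (ρ h v) - ρ h v = ρ (g * h) v - v - (ρ h v - v) := by
      rw [map_mul, Module.End.mul_apply]
      abel
    rw [h4]
    exact h3

/-- Level `a` elements. -/
def Lev (ρ : P →* Module.End F V) (a : ℕ) (g : P) : Prop :=
  ∀ i, ∀ v ∈ upF ρ (i + a), ρ g v - v ∈ upF ρ i

theorem lev_mul {ρ : P →* Module.End F V} {a : ℕ} {g h : P} (hg : Lev ρ a g) (hh : Lev ρ a h) :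
    Lev ρ a (g * h) := by
  intro i v hv
  have h1 := hg i _ (upF_inv ρ _ h v hv)
  have h2 := hh i v hv
  have h3 := (upF ρ i).add_mem h1 h2
  rw [map_mul, Module.End.mul_apply]
  convert h3 using 1
  abel

theorem lev_inv {ρ : P →* Module.End F V} {a : ℕ} {g : P} (hg : Lev ρ a g) : Lev ρ a g⁻¹ := by
  intro i v hv
  have h1 := hg i _ (upF_inv ρ _ g⁻¹ v hv)
  have h2 : ρ g (ρ g⁻¹ v) = v := by
    rw [← Module.End.mul_apply, ← map_mul, mul_inv_cancel, map_one]
    rfl
  rw [h2] at h1
  have h3 := (upF ρ i).neg_mem h1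
  rwa [neg_sub] at h3

theorem lev_comm {ρ : P →* Module.End F V} {a : ℕ} {g h : P} (hg : Lev ρ a g) (hh : Lev ρ a h) :
    Lev ρ (a + a) ⁅g, h⁆ := by
  intro i v hv
  have hv' : v ∈ upF ρ (i + a + a) := by rwa [add_assoc]
  -- ρ ⁅g,h⁆ v - v = ((g-1)(h-1) - (h-1)(g-1)) w, w = g⁻¹ h⁻¹ v
  set w := ρ (g⁻¹ * h⁻¹) v with hw
  have hwm : w ∈ upF ρ (i + a + a) := upF_inv ρ _ _ v hv'
  have h1 : ρ h w - w ∈ upF ρ (i + a) := hh (i + a) w hwm
  have h2 : ρ g w - w ∈ upF ρ (i + a) := hg (i + a) w hwm
  have h3 := hg i _ h1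
  have h4 := hh i _ h2
  have h5 := (upF ρ i).sub_mem h3 h4
  have e1 : ρ g (ρ h w) = ρ ⁅g, h⁆ v := by
    rw [hw, ← Module.End.mul_apply, ← map_mul, ← Module.End.mul_apply, ← map_mul,
      commutatorElement_def]
    congr 2
    group
  have e2 : ρ h (ρ g w) = v := by
    rw [hw, ← Module.End.mul_apply, ← map_mul, ← Module.End.mul_apply, ← map_mul]
    have : h * g * (g⁻¹ * h⁻¹) = 1 := by group
    rw [this, map_one]
    rfl
  have e3 : ρ g (ρ h w - w) - (ρ h w - w) - (ρ h (ρ g w - w) - (ρ g w - w))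
      = ρ ⁅g, h⁆ v - v := by
    rw [map_sub, map_sub, e1, e2]
    abel
  rwa [e3] at h5

theorem lev_derived (ρ : P →* Module.End F V) (j : ℕ) (g : P) (hg : g ∈ derivedSeries P j) :
    Lev ρ (2 ^ j) g := by
  induction j generalizing g with
  | zero =>
    intro i v hv
    rw [pow_zero] at hv
    exact hv g
  | succ j ih =>
    rw [derivedSeries_succ] at hg
    have : ⁅derivedSeries P j, derivedSeries P j⁆ ≤
        { carrier := {g | Lev ρ (2 ^ (j + 1)) g}
          mul_mem' := lev_mul
          one_mem' := fun i v _ => by simp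
          inv_mem' := lev_inv } := by
      rw [Subgroup.commutator_le]
      intro a ha b hb
      have := lev_comm (ih a ha) (ih b hb)
      rwa [← two_mul, ← pow_succ'] at this
    exact this hg

/-- The filtration reaches the whole space after `finrank` steps. -/
theorem upF_finrank (hP : IsPGroup p P) (ρ : P →* Module.End F V) (hpF : ((p : ℕ) : F) = 0) :
    upF ρ (Module.finrank F V) = ⊤ := by
  classical
  by_contra hne
  have hne' : ∀ i ≤ Module.finrank F V, upF ρ i ≠ ⊤ := by
    intro i hi h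
    apply hne
    exact top_le_iff.1 (h ▸ upF_mono ρ hi)
  have hgrow : ∀ i ≤ Module.finrank F V, i ≤ Module.finrank F (upF ρ i) := by
    intro i
    induction i with
    | zero => intro _; exact Nat.zero_le _
    | succ i ih =>
      intro hi
      have h1 := ih (by omega)
      have h2 := hne' i (by omega)
      haveI : Nontrivial (V ⧸ upF ρ i) := Submodule.Quotient.nontrivial_iff.2 h2
      obtain ⟨w, hw0, hw⟩ := exists_fixed_vector hP
        (quotRep ρ (upF ρ i) (fun g x hx => upF_inv ρ i g x hx)) hpF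
      obtain ⟨v, rfl⟩ := Submodule.Quotient.mk_surjective _ w
      have hvm : v ∈ upF ρ (i + 1) := by
        intro g
        have := hw g
        rw [quotRep_mk] at this
        exact (Submodule.Quotient.eq _).1 this
      have hvn : v ∉ upF ρ i := by
        intro h
        exact hw0 ((Submodule.Quotient.mk_eq_zero _).2 h)
      have hlt : upF ρ i < upF ρ (i + 1) :=
        lt_of_le_of_ne (upF_le_succ ρ i) (fun h => hvn (h ▸ hvm))
      have := Submodule.finrank_lt_finrank_of_lt hlt
      omega
  have h1 := hgrow _ le_rfl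
  have h2 : Module.finrank F (upF ρ (Module.finrank F V)) = Module.finrank F V :=
    le_antisymm (Submodule.finrank_le _) h1
  exact hne (Submodule.eq_top_of_finrank_eq h2)

/-- The modular bound. -/
theorem modular_bound (hP : IsPGroup p P) (ρ : P →* Module.End F V) (hpF : ((p : ℕ) : F) = 0)
    (k : ℕ) (hk : Module.finrank F V < 2 ^ k) (g : P) (hg : g ∈ derivedSeries P k) : ρ g = 1 := by
  have h1 := lev_derived ρ k g hg
  apply LinearMap.ext
  intro v
  have h2 : v ∈ upF ρ (0 + 2 ^ k) := by
    have h3 := upF_finrank hP ρ hpF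
    have h4 : upF ρ (Module.finrank F V) ≤ upF ρ (0 + 2 ^ k) := upF_mono ρ (by omega)
    apply h4
    rw [h3]
    trivial
  have h3 : ρ g v - v ∈ upF ρ 0 := h1 0 v h2
  have h4 : ρ g v - v = 0 := h3
  exact sub_eq_zero.1 h4

end Cfsg.Agent.Lib.FrobRep.PLinear
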