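import Mathlib
import Cfsg.Agent.Lib.FrobRep.PLinear
import Cfsg.Agent.Lib.PGroup.FrattiniBasis

/-!
# The number of generators of 2-subgroups of linear groups

A finite 2-group acting on an `n`-dimensional space over a field of characteristic not 2 is
generated modulo the kernel by at most `2 n - 1` elements.  Over the field with three elements one
has the better bound `⌊3 n / 2⌋ - 1` for `n ≥ 2`.
-/

set_option autoImplicit false
set_option linter.style.haveILetI false

open Polynomial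
open scoped commutatorElement

universe u v w

namespace Cfsg.Agent.Lib.FrobRep.TwoRank

open Cfsg.Agent.Lib.FrobRep Cfsg.Agent.Lib.FrobRep.PLinear

/-- `Q` is generated modulo `K` by at most `d` elements. -/
def GenMod {Q : Type*} [Group Q] (K : Subgroup Q) (d : ℕ) : Prop :=
  ∃ T : Finset Q, T.card ≤ d ∧ Subgroup.closure (T : Set Q) ⊔ K = ⊤

section genmod

variable {Q : Type*} [Group Q]

theorem GenMod.mono {K : Subgroup Q} {a b : ℕ} (h : GenMod K a) (hab : a ≤ b) : GenMod K b := by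
  obtain ⟨T, h1, h2⟩ := h
  exact ⟨T, h1.trans hab, h2⟩

theorem GenMod.of_top (d : ℕ) : GenMod (⊤ : Subgroup Q) d := ⟨∅, by simp, by simp⟩

theorem GenMod.congr {K K' : Subgroup Q} (hK : K = K') {d : ℕ} (h : GenMod K d) : GenMod K' d :=
  hK ▸ h

theorem GenMod.add {N K : Subgroup Q} {a b : ℕ} (h1 : GenMod N a) {K' : Subgroup ↥N}
    (hK' : K'.map N.subtype ≤ K) (h2 : GenMod K' b) : GenMod K (a + b) := by
  classical
  obtain ⟨T₁, hT₁, hc₁⟩ := h1
  obtain ⟨T₂, hT₂, hc₂⟩ := h2
  refine ⟨T₁ ∪ T₂.image Subtype.val, ?_, ?_⟩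
  · refine (Finset.card_union_le _ _).trans ?_
    have := Finset.card_image_le (s := T₂) (f := (Subtype.val : ↥N → Q))
    omega
  · rw [eq_top_iff, ← hc₁]
    apply sup_le
    · apply le_sup_of_le_left
      apply Subgroup.closure_mono
      intro x hx
      simp only [Finset.coe_union, Set.mem_union]
      exact Or.inl hx
    · intro y hy
      have h3 : (⟨y, hy⟩ : ↥N) ∈ Subgroup.closure (T₂ : Set ↥N) ⊔ K' := by
        rw [hc₂]
        trivial
      have h4 := Subgroup.mem_map_of_mem N.subtype h3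
      rw [Subgroup.map_sup, MonoidHom.map_closure] at h4
      have h5 : Subgroup.closure (N.subtype '' (T₂ : Set ↥N)) ⊔ K'.map N.subtype ≤
          Subgroup.closure ((T₁ ∪ T₂.image Subtype.val : Finset Q) : Set Q) ⊔ K := by
        apply sup_le
        · apply le_sup_of_le_left
          apply Subgroup.closure_mono
          rintro _ ⟨z, hz, rfl⟩
          simp only [Finset.coe_union, Set.mem_union, Finset.coe_image]
          exact Or.inr ⟨z, hz, rfl⟩
        · exact le_sup_of_le_right hK'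
      exact h5 h4

theorem GenMod.of_quot {D : Subgroup Q} [D.Normal] {d : ℕ} (h : GenMod (⊥ : Subgroup (Q ⧸ D)) d) :
    GenMod D d := by
  classical
  obtain ⟨T, hT, hc⟩ := h
  let s : Q ⧸ D → Q := Function.surjInv QuotientGroup.mk_surjective
  have hs : ∀ q : Q ⧸ D, ((s q : Q) : Q ⧸ D) = q := Function.surjInv_eq QuotientGroup.mk_surjective
  refine ⟨T.image s, Finset.card_image_le.trans hT, ?_⟩
  rw [eq_top_iff]
  intro g _
  rw [sup_bot_eq] at hc
  have h1 : (g : Q ⧸ D) ∈ Subgroup.closure (T : Set (Q ⧸ D)) := by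
    rw [hc]
    trivial
  have h2 : Subgroup.closure (T : Set (Q ⧸ D)) ≤
      ((Subgroup.closure ((T.image s : Finset Q) : Set Q) ⊔ D).map (QuotientGroup.mk' D)) := by
    rw [Subgroup.closure_le]
    intro t ht
    refine ⟨s t, ?_, hs t⟩
    apply Subgroup.mem_sup_left
    apply Subgroup.subset_closure
    simp only [Finset.coe_image]
    exact ⟨t, ht, rfl⟩
  obtain ⟨y, hy, hyg⟩ := h2 h1
  have h3 : y⁻¹ * g ∈ D := QuotientGroup.eq.1 hyg
  have h4 : g = y * (y⁻¹ * g) := by group
  rw [h4]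
  exact Subgroup.mul_mem _ hy (Subgroup.mem_sup_right h3)

theorem GenMod.of_zpowers {C : Subgroup Q} {g₀ : Q} (hC : C ⊔ Subgroup.zpowers g₀ = ⊤) :
    GenMod C 1 := by
  refine ⟨{g₀}, by simp, ?_⟩
  rw [Finset.coe_singleton, ← Subgroup.zpowers_eq_closure, sup_comm]
  exact hC

theorem GenMod.of_index_two {C : Subgroup Q} {g₀ : Q} (hC : C ⊔ Subgroup.zpowers g₀ = ⊤) {d : ℕ}
    (h : GenMod (⊥ : Subgroup ↥C) d) : GenMod (⊥ : Subgroup Q) (d + 1) := by
  have := GenMod.add (GenMod.of_zpowers hC) (K := ⊥) (K' := ⊥) (by simp) h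
  rwa [add_comm] at this

theorem index_frattini_le {p : ℕ} [hp : Fact p.Prime] [Finite Q] (hQ : IsPGroup p Q) {d : ℕ}
    (h : GenMod (⊥ : Subgroup Q) d) : (frattini Q).index ≤ p ^ d := by
  classical
  obtain ⟨T, hT, hc⟩ := h
  rw [sup_bot_eq] at hc
  obtain ⟨V, _, _, π, hπ, hker⟩ :=
    Cfsg.Agent.Lib.PGroup.FrattiniBasis.exists_vector_space hQ
  haveI : Finite V := Cfsg.Agent.Lib.PGroup.FrattiniBasis.finite_of_surj hπ
  have h1 : (frattini Q).index = Nat.card V := by
    rw [← hker, Subgroup.index_ker, MonoidHom.range_eq_top.2 hπ]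
    exact (Subgroup.card_top).trans (Nat.card_congr Multiplicative.toAdd)
  have h2 : Nat.card V = p ^ Module.finrank (ZMod p) V := by
    rw [Module.natCard_eq_pow_finrank (K := ZMod p), Nat.card_zmod]
  have hspan := Cfsg.Agent.Lib.PGroup.FrattiniBasis.span_eq_top_of_closure (p := p) hπ hc
  have h3 := finrank_span_finset_le_card (R := ZMod p) (T.image (fun g => Multiplicative.toAdd (π g)))
  rw [Set.finrank, Finset.coe_image, hspan, finrank_top] at h3
  have h4 : Module.finrank (ZMod p) V ≤ d := (h3.trans Finset.card_image_le).trans hT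
  rw [h1, h2]
  exact Nat.pow_le_pow_right hp.out.pos h4

end genmod

section reducible

variable {F : Type u} [Field F] {V : Type v} [AddCommGroup V] [Module F V] {Q : Type w} [Group Q]

/-- The two sides of an invariant subspace add up. -/
theorem gen_reducible (hQ : IsPGroup 2 Q) (ρ : Q →* Module.End F V) (hpF : ((2 : ℕ) : F) ≠ 0)
    (U : Submodule F V) (hU : ∀ g, ∀ x ∈ U, ρ g x ∈ U) {a b : ℕ}
    (h1 : GenMod (subRep ρ U hU).ker a)
    (h2 : GenMod (quotRep (ρ.comp (subRep ρ U hU).ker.subtype) U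
      (fun g x hx => hU _ x hx)).ker b) : GenMod ρ.ker (a + b) := by
  refine GenMod.add h1 ?_ h2
  rintro _ ⟨g, hg, rfl⟩
  rw [MonoidHom.mem_ker]
  have hg1 : subRep ρ U hU (g : Q) = 1 := MonoidHom.mem_ker.1 g.2
  have hg2 := MonoidHom.mem_ker.1 hg
  apply eq_one_of_chain hQ ρ hpF (g : Q) U
  · intro u hu
    have := LinearMap.congr_fun hg1 ⟨u, hu⟩
    exact congrArg Subtype.val this
  · intro v
    have := LinearMap.congr_fun hg2 (Submodule.Quotient.mk v)
    rw [quotRep_mk] at this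
    exact (Submodule.Quotient.eq U).1 this

end reducible

/-- The general bound. -/
def B1 (n : ℕ) : Prop :=
  ∀ (F : Type u) [Field F] (V : Type v) [AddCommGroup V] [Module F V] [FiniteDimensional F V]
    (Q : Type w) [Group Q] [Finite Q], IsPGroup 2 Q → ∀ ρ : Q →* Module.End F V,
    ((2 : ℕ) : F) ≠ 0 → Module.finrank F V = n → GenMod ρ.ker (2 * n - 1)

section ext

variable {F : Type u} [Field F] {V : Type v} [AddCommGroup V] [Module F V] [FiniteDimensional F V]
  {R : Type w} [Group R] [Finite R]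

/-- Passing to a field extension generated by a commuting operator. -/
theorem gen_of_ext {n : ℕ} (IH : ∀ m < n, B1.{u, v, w} m) (hR : IsPGroup 2 R)
    (σ : R →* Module.End F V) (hpF : ((2 : ℕ) : F) ≠ 0) (hn : Module.finrank F V = n) (hnpos : 0 < n)
    (T : Module.End F V) (hT : ∀ g, Commute (σ g) T) (f : F[X]) (hfi : Irreducible f)
    (hTf : aeval T f = 0) (hd : 2 ≤ f.natDegree) :
    ∃ m, 1 ≤ m ∧ f.natDegree * m = n ∧ GenMod σ.ker (2 * m - 1) := by
  letI : Fact (Irreducible f) := ⟨hfi⟩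
  letI instM : Module (AdjoinRoot f) V := extModule f T hTf
  haveI instT : IsScalarTower F (AdjoinRoot f) V := ext_tower f T hTf
  haveI : Module.Finite F (AdjoinRoot f) := (AdjoinRoot.powerBasis hfi.ne_zero).finite
  haveI : Module.Finite (AdjoinRoot f) V := Module.Finite.of_restrictScalars_finite F _ _
  have hdeg : Module.finrank F (AdjoinRoot f) = f.natDegree := finrank_quotient_span_eq_natDegree
  have hsm : ∀ (a : AdjoinRoot f) (x : V), a • x = extHom f T hTf a x := fun _ _ => rfl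
  let ρK : R →* Module.End (AdjoinRoot f) V :=
    liftRep σ (fun g a x => by
      rw [hsm, hsm]
      exact LinearMap.congr_fun (commute_extHom (hT g) f hTf a).eq x)
  have hmul := Module.finrank_mul_finrank F (AdjoinRoot f) V
  rw [hdeg, hn] at hmul
  have hpos : 0 < Module.finrank (AdjoinRoot f) V := by
    by_contra h0
    have h1 : Module.finrank (AdjoinRoot f) V = 0 := by omega
    rw [h1, mul_zero] at hmul
    omega
  have hlt : Module.finrank (AdjoinRoot f) V < n := by
    rw [← hmul]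
    nlinarith
  have hpK : ((2 : ℕ) : AdjoinRoot f) ≠ 0 := by
    have : ((2 : ℕ) : AdjoinRoot f) = algebraMap F (AdjoinRoot f) ((2 : ℕ) : F) :=
      (map_natCast (algebraMap F (AdjoinRoot f)) 2).symm
    rw [this]
    exact (map_ne_zero_iff _ (algebraMap F (AdjoinRoot f)).injective).2 hpF
  refine ⟨Module.finrank (AdjoinRoot f) V, hpos, hmul, ?_⟩
  have h := IH _ hlt (AdjoinRoot f) V R hR ρK hpK rfl
  refine GenMod.congr ?_ h
  ext g
  rw [MonoidHom.mem_ker, MonoidHom.mem_ker]
  constructor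
  · intro h1
    apply LinearMap.ext
    intro v
    exact LinearMap.congr_fun h1 v
  · intro h1
    apply LinearMap.ext
    intro v
    exact LinearMap.congr_fun h1 v

end ext

section faithful

variable {F : Type u} [Field F] {V : Type v} [AddCommGroup V] [Module F V] [FiniteDimensional F V]
  {Q : Type w} [Group Q] [Finite Q]

omit [FiniteDimensional F V] [Finite Q] in
theorem scal_inj [Nontrivial V] {c d : F} (h : c • (1 : Module.End F V) = d • 1) : c = d := by
  have h1 : (c - d) • (1 : Module.End F V) = 0 := by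
    rw [sub_smul, h, sub_self]
  have h2 := (smul_eq_zero.1 h1).resolve_right one_ne_zero
  exact sub_eq_zero.1 h2

omit [FiniteDimensional F V] in
/-- If all elements act by scalars then the group is cyclic. -/
theorem cyclic_of_scalar [Nontrivial V] (ρ : Q →* Module.End F V) (hinj : Function.Injective ρ)
    (hs : ∀ g, ∃ c : F, ρ g = c • 1) : GenMod (⊥ : Subgroup Q) 1 := by
  classical
  choose c hc using hs
  let f : Q →* F :=
    { toFun := c
      map_one' := by
        apply scal_inj (V := V)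
        rw [← hc, map_one, one_smul]
      map_mul' := fun a b => by
        apply scal_inj (V := V)
        rw [← hc, map_mul, hc a, hc b, smul_mul_smul_comm, one_mul] }
  have hf : Function.Injective f := by
    intro a b hab
    apply hinj
    rw [hc a, hc b]
    exact congrArg (fun t : F => t • (1 : Module.End F V)) hab
  haveI : IsCyclic Q := isCyclic_of_subgroup_isDomain f hf
  obtain ⟨g, hg⟩ := IsCyclic.exists_generator (α := Q)
  refine ⟨{g}, by simp, ?_⟩
  rw [Finset.coe_singleton, ← Subgroup.zpowers_eq_closure, sup_bot_eq, eq_top_iff]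
  intro x _
  exact hg x

theorem minpoly_facts [Nontrivial V] (ρ : Q →* Module.End F V)
    (hirr : ∀ U : Submodule F V, (∀ g, ∀ x ∈ U, ρ g x ∈ U) → U = ⊥ ∨ U = ⊤)
    (T : Module.End F V) (hT : ∀ g, Commute (ρ g) T) (hns : ∀ c : F, T ≠ c • 1) :
    ∃ μ : F[X], Irreducible μ ∧ aeval T μ = 0 ∧ 2 ≤ μ.natDegree := by
  have hint : IsIntegral F T := Algebra.IsIntegral.isIntegral T
  have hμ := irreducible_minpoly ρ hirr T hT
  have hmon : (minpoly F T).Monic := minpoly.monic hint
  have hTμ : aeval T (minpoly F T) = 0 := minpoly.aeval F T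
  refine ⟨minpoly F T, hμ, hTμ, ?_⟩
  have h1 : 0 < (minpoly F T).natDegree := hμ.natDegree_pos
  by_contra h2
  have h3 : (minpoly F T).natDegree = 1 := by omega
  have h4 := hmon.eq_X_add_C h3
  rw [h4] at hTμ
  simp only [map_add, aeval_X, aeval_C] at hTμ
  apply hns (-((minpoly F T).coeff 0))
  have h5 : T = -(algebraMap F (Module.End F V) ((minpoly F T).coeff 0)) :=
    eq_neg_of_add_eq_zero_left hTμ
  refine h5.trans ?_
  rw [neg_smul, Module.algebraMap_end_eq_smul_id]
  rfl

/-- The data of the non-abelian case with scalar centre. -/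
structure SecondData (ρ : Q →* Module.End F V) (x g₀ : Q) : Prop where
  hζ : ρ ⁅g₀, x⁆ = (-1 : F) • 1
  hdich : ∀ g : Q, g ∈ Subgroup.centralizer ({x} : Set Q) ∨
    g₀⁻¹ * g ∈ Subgroup.centralizer ({x} : Set Q)
  hsq : ∃ a : F, ρ (x ^ 2) = a • 1

theorem exists_second_data [Nontrivial V] (hP : IsPGroup 2 Q) (ρ : Q →* Module.End F V)
    (hinj : Function.Injective ρ) (hpF : ((2 : ℕ) : F) ≠ 0)
    (hns : ∀ z ∈ Subgroup.center Q, ∃ c : F, ρ z = c • 1) (hab : ¬ ∀ a b : Q, a * b = b * a) :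
    ∃ x g₀ : Q, SecondData ρ x g₀ := by
  classical
  haveI : Fact (Nat.Prime 2) := ⟨Nat.prime_two⟩
  obtain ⟨x, g₀, hcent, hxp, hg₀⟩ := exists_second_center hP hab
  have hsqc : ∀ g : Q, ⁅g, x⁆ ^ 2 = 1 := by
    intro g
    set c := ⁅g, x⁆ with hc
    have h1 : g * x * g⁻¹ = c * x := by
      rw [hc, commutatorElement_def]
      group
    have h2 : (g * x * g⁻¹) ^ 2 = g * x ^ 2 * g⁻¹ := by
      rw [conj_pow]
    have h3 : g * x ^ 2 * g⁻¹ = x ^ 2 := by
      rw [(Subgroup.mem_center_iff.1 hxp g)]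
      group
    have h4 : Commute c x := (Subgroup.mem_center_iff.1 (hcent g) x).symm
    rw [h1, h3, h4.mul_pow] at h2
    exact mul_eq_right.1 h2
  have hval : ∀ g : Q, ∃ ζ : F, ρ ⁅g, x⁆ = ζ • 1 ∧ (ζ = 1 ∨ ζ = -1) := by
    intro g
    obtain ⟨ζ, hζ⟩ := hns _ (hcent g)
    refine ⟨ζ, hζ, ?_⟩
    have h1 : ρ (⁅g, x⁆ ^ 2) = (ζ ^ 2) • 1 := by
      rw [map_pow, hζ, _root_.smul_pow, one_pow]
    rw [hsqc, map_one] at h1
    have h2 : (1 : F) = ζ ^ 2 := by
      apply scal_inj (V := V)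
      rw [← h1, one_smul]
    have h3 : (ζ - 1) * (ζ + 1) = 0 := by
      have : (ζ - 1) * (ζ + 1) = ζ ^ 2 - 1 := by ring
      rw [this, ← h2, sub_self]
    rcases mul_eq_zero.1 h3 with h4 | h4
    · exact Or.inl (sub_eq_zero.1 h4)
    · exact Or.inr (eq_neg_of_add_eq_zero_left h4)
  have hne : ∀ g : Q, ∀ ζ : F, ρ ⁅g, x⁆ = ζ • 1 → ζ = 1 → g ∈ Subgroup.centralizer ({x} : Set Q) := by
    intro g ζ hζ h1
    rw [h1, one_smul] at hζ
    have h2 : ⁅g, x⁆ = 1 := hinj (by rw [hζ, map_one])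
    rw [Subgroup.mem_centralizer_singleton_iff]
    rw [commutatorElement_def] at h2
    have h3 := mul_inv_eq_one.1 h2
    exact mul_inv_eq_iff_eq_mul.1 h3
  obtain ⟨ζ₀, hζ₀, hζ₀'⟩ := hval g₀
  have hζ₀1 : ζ₀ = -1 := by
    rcases hζ₀' with h | h
    · exfalso
      apply hg₀
      apply hinj
      rw [hζ₀, h, one_smul, map_one]
    · exact h
  obtain ⟨a, ha⟩ := hns _ hxp
  refine ⟨x, g₀, ⟨by rw [hζ₀, hζ₀1], ?_, ⟨a, ha⟩⟩⟩
  intro g
  obtain ⟨ζ, hζ, hζ'⟩ := hval g
  rcases hζ' with h | h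
  · exact Or.inl (hne g ζ hζ h)
  · right
    have h1 : ⁅g, x⁆ = ⁅g₀, x⁆ := hinj (by rw [hζ, h, hζ₀, hζ₀1])
    rw [Subgroup.mem_centralizer_singleton_iff]
    rw [commutatorElement_def, commutatorElement_def] at h1
    have h2 : g * x * g⁻¹ = g₀ * x * g₀⁻¹ := mul_right_cancel h1
    calc g₀⁻¹ * g * x = g₀⁻¹ * (g * x * g⁻¹) * g := by group
      _ = g₀⁻¹ * (g₀ * x * g₀⁻¹) * g := by rw [h2]
      _ = x * (g₀⁻¹ * g) := by group

theorem sup_eq_top_of_dich {x g₀ : Q}
    (h : ∀ g : Q, g ∈ Subgroup.centralizer ({x} : Set Q) ∨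
      g₀⁻¹ * g ∈ Subgroup.centralizer ({x} : Set Q)) :
    Subgroup.centralizer ({x} : Set Q) ⊔ Subgroup.zpowers g₀ = ⊤ := by
  rw [eq_top_iff]
  intro g _
  rcases h g with h1 | h1
  · exact Subgroup.mem_sup_left h1
  · have h2 : g = g₀ * (g₀⁻¹ * g) := by group
    rw [h2, sup_comm]
    exact Subgroup.mul_mem_sup (Subgroup.mem_zpowers g₀) h1

/-- A commuting operator for the centralizer. -/
theorem commute_centralizer (ρ : Q →* Module.End F V) (x : Q)
    (g : ↥(Subgroup.centralizer ({x} : Set Q))) :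
    Commute ((ρ.comp (Subgroup.centralizer ({x} : Set Q)).subtype) g) (ρ x) := by
  have := Subgroup.mem_centralizer_singleton_iff.1 g.2
  show ρ (g : Q) * ρ x = ρ x * ρ (g : Q)
  rw [← map_mul, ← map_mul, this]

theorem inj_comp (ρ : Q →* Module.End F V) (hinj : Function.Injective ρ) (C : Subgroup Q) :
    (ρ.comp C.subtype).ker = ⊥ := by
  rw [MonoidHom.ker_eq_bot_iff]
  exact hinj.comp Subtype.val_injective

/-- Case A: the square is not a square in the field. -/
theorem caseA {n : ℕ} (IH : ∀ m < n, B1.{u, v, w} m) (hP : IsPGroup 2 Q) (ρ : Q →* Module.End F V)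
    (hinj : Function.Injective ρ) (hpF : ((2 : ℕ) : F) ≠ 0) (hn : Module.finrank F V = n)
    (hnpos : 0 < n) (x : Q) (a : F) (ha : ρ (x ^ 2) = a • 1) (hns : ∀ b : F, b ^ 2 ≠ a) :
    ∃ m, 1 ≤ m ∧ 2 * m = n ∧
      GenMod (⊥ : Subgroup ↥(Subgroup.centralizer ({x} : Set Q))) (2 * m - 1) := by
  have hfi : Irreducible (X ^ 2 - C a : F[X]) := X_pow_sub_C_irreducible_of_prime Nat.prime_two hns
  have hTf : aeval (ρ x) (X ^ 2 - C a : F[X]) = 0 := by
    rw [map_sub, map_pow, aeval_X, aeval_C, Module.algebraMap_end_eq_smul_id, ← map_pow, ha]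
    exact sub_eq_zero.2 rfl
  have hdeg : (X ^ 2 - C a : F[X]).natDegree = 2 := natDegree_X_pow_sub_C
  obtain ⟨m, hm, hm2, hg⟩ := gen_of_ext IH (hP.to_subgroup _)
    (ρ.comp (Subgroup.centralizer ({x} : Set Q)).subtype) hpF hn hnpos (ρ x)
    (commute_centralizer ρ x) _ hfi hTf (by rw [hdeg])
  rw [hdeg] at hm2
  rw [inj_comp ρ hinj] at hg
  exact ⟨m, hm, hm2, hg⟩

/-- An eigenvalue in the split case. -/
theorem exists_eigen [Nontrivial V] (T : Module.End F V) (b : F) (hT : T * T = (b ^ 2) • 1) :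
    ∃ lam : F, lam ^ 2 = b ^ 2 ∧ Module.End.eigenspace T lam ≠ ⊥ := by
  by_cases h : Module.End.eigenspace T b = ⊥
  · refine ⟨-b, by ring, ?_⟩
    have h1 : ∀ v, T v - b • v = 0 → v = 0 := by
      intro v hv
      have : v ∈ Module.End.eigenspace T b := by
        rw [Module.End.mem_eigenspace_iff]
        exact sub_eq_zero.1 hv
      rw [h, Submodule.mem_bot] at this
      exact this
    have h2 : ∀ v, T v + b • v = 0 := by
      intro v
      apply h1
      have h3 := LinearMap.congr_fun hT v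
      simp only [Module.End.mul_apply, LinearMap.smul_apply, Module.End.one_apply] at h3
      rw [map_add, h3, map_smul, smul_add, smul_smul]
      have : b ^ 2 = b * b := by ring
      rw [this]
      abel
    obtain ⟨v, hv⟩ := exists_ne (0 : V)
    intro h4
    apply hv
    have : v ∈ Module.End.eigenspace T (-b) := by
      rw [Module.End.mem_eigenspace_iff, neg_smul]
      exact eq_neg_of_add_eq_zero_left (h2 v)
    rw [h4, Submodule.mem_bot] at this
    exact this
  · exact ⟨b, rfl, h⟩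

/-- The relation between `x` and `g₀`. -/
theorem second_rel {ρ : Q →* Module.End F V} {x g₀ : Q} (hd : SecondData ρ x g₀) (v : V) :
    ρ g₀ (ρ x v) = - ρ x (ρ g₀ v) := by
  have h1 : g₀ * x = ⁅g₀, x⁆ * (x * g₀) := by
    rw [commutatorElement_def]
    group
  have h2 := LinearMap.congr_fun (congrArg ρ h1) v
  rw [map_mul, map_mul, map_mul, hd.hζ] at h2
  simpa using h2

theorem eigen_neg {ρ : Q →* Module.End F V} {x g₀ : Q} (hd : SecondData ρ x g₀) (μ : F) (v : V)
    (hv : v ∈ Module.End.eigenspace (ρ x) μ) : ρ g₀ v ∈ Module.End.eigenspace (ρ x) (-μ) := by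
  rw [Module.End.mem_eigenspace_iff] at hv ⊢
  have h2 := second_rel hd v
  rw [hv, map_smul] at h2
  rw [neg_smul, h2, neg_neg]

theorem eigen_centralizer (ρ : Q →* Module.End F V) (x : Q) (μ : F)
    (c : Q) (hc : c ∈ Subgroup.centralizer ({x} : Set Q)) (v : V)
    (hv : v ∈ Module.End.eigenspace (ρ x) μ) : ρ c v ∈ Module.End.eigenspace (ρ x) μ := by
  rw [Module.End.mem_eigenspace_iff] at hv ⊢
  have h1 := Subgroup.mem_centralizer_singleton_iff.1 hc
  have h2 := LinearMap.congr_fun (congrArg ρ h1) v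
  simp only [map_mul, Module.End.mul_apply] at h2
  rw [← h2, hv, map_smul]

theorem rho_inj (ρ : Q →* Module.End F V) (g : Q) : Function.Injective (ρ g) := by
  have h : ∀ v, ρ g⁻¹ (ρ g v) = v := by
    intro v
    rw [← Module.End.mul_apply, ← map_mul, inv_mul_cancel, map_one]
    rfl
  exact Function.LeftInverse.injective h

theorem eigen_ne_top [Nontrivial V] {ρ : Q →* Module.End F V} {x g₀ : Q} (hd : SecondData ρ x g₀)
    (hpF : ((2 : ℕ) : F) ≠ 0) (lam : F) (hlam : lam ≠ 0) :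
    Module.End.eigenspace (ρ x) lam ≠ ⊤ := by
  intro h
  obtain ⟨v, hv⟩ := exists_ne (0 : V)
  have hv1 : v ∈ Module.End.eigenspace (ρ x) lam := by
    rw [h]
    trivial
  have h1 := eigen_neg hd lam v hv1
  have h2 : ρ g₀ v ∈ Module.End.eigenspace (ρ x) lam := by
    rw [h]
    trivial
  rw [Module.End.mem_eigenspace_iff] at h1 h2
  rw [h2] at h1
  have h3 : (2 * lam) • ρ g₀ v = 0 := by
    have : (2 * lam) • ρ g₀ v = lam • ρ g₀ v - (-lam) • ρ g₀ v := by
      rw [← sub_smul]
      congr 1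
      ring
    rw [this, ← h1, sub_self]
  have h4 : (2 * lam) ≠ 0 := mul_ne_zero (by exact_mod_cast hpF) hlam
  have h5 := (smul_eq_zero.1 h3).resolve_left h4
  exact hv (rho_inj ρ g₀ (by rw [h5, map_zero]))

/-- The invariant subspace bound. -/
theorem reducible_bound {R : Type w} [Group R] [Finite R] (hR : IsPGroup 2 R)
    (σ : R →* Module.End F V) (hpF : ((2 : ℕ) : F) ≠ 0) (U : Submodule F V)
    (hU : ∀ g, ∀ x ∈ U, σ g x ∈ U) (g : ℕ → ℕ)
    (hb1 : ∀ (G : Type w) [Group G] [Finite G], IsPGroup 2 G → ∀ τ : G →* Module.End F ↥U,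
      GenMod τ.ker (g (Module.finrank F U)))
    (hb2 : ∀ (G : Type w) [Group G] [Finite G], IsPGroup 2 G → ∀ τ : G →* Module.End F (V ⧸ U),
      GenMod τ.ker (g (Module.finrank F (V ⧸ U)))) :
    GenMod σ.ker (g (Module.finrank F U) + g (Module.finrank F (V ⧸ U))) :=
  gen_reducible hR σ hpF U hU (hb1 R hR _) (hb2 _ (hR.to_subgroup _) _)

theorem finrank_facts (U : Submodule F V) (hbot : U ≠ ⊥) (htop : U ≠ ⊤) :
    1 ≤ Module.finrank F U ∧ 1 ≤ Module.finrank F (V ⧸ U) ∧
      Module.finrank F U < Module.finrank F V ∧ Module.finrank F (V ⧸ U) < Module.finrank F V ∧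
      Module.finrank F U + Module.finrank F (V ⧸ U) = Module.finrank F V := by
  have h1 : Module.finrank F U < Module.finrank F V := Submodule.finrank_lt htop
  have h2 : 0 < Module.finrank F U := by
    rw [Module.finrank_pos_iff]
    exact Submodule.nontrivial_iff_ne_bot.2 hbot
  have h3 : Module.finrank F (V ⧸ U) + Module.finrank F U = Module.finrank F V :=
    Submodule.finrank_quotient_add_finrank U
  omega

/-- The central element acts by a non-scalar. -/
theorem central_case {n : ℕ} (IH : ∀ m < n, B1.{u, v, w} m) [Nontrivial V] (hP : IsPGroup 2 Q)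
    (ρ : Q →* Module.End F V)
    (hpF : ((2 : ℕ) : F) ≠ 0) (hn : Module.finrank F V = n) (hnpos : 0 < n)
    (hirr : ∀ U : Submodule F V, (∀ g, ∀ x ∈ U, ρ g x ∈ U) → U = ⊥ ∨ U = ⊤)
    (z : Q) (hz : z ∈ Subgroup.center Q) (hzns : ∀ c : F, ρ z ≠ c • 1) :
    ∃ m, 1 ≤ m ∧ 2 * m ≤ n ∧ GenMod ρ.ker (2 * m - 1) := by
  have hT : ∀ g, Commute (ρ g) (ρ z) := by
    intro g
    show ρ g * ρ z = ρ z * ρ g
    rw [← map_mul, ← map_mul, (Subgroup.mem_center_iff.1 hz g)]
  obtain ⟨μ, hμ, hTμ, hd⟩ := minpoly_facts ρ hirr (ρ z) hT hzns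
  obtain ⟨m, hm, hm2, hg⟩ := gen_of_ext IH hP ρ hpF hn hnpos (ρ z) hT μ hμ hTμ hd
  refine ⟨m, hm, ?_, hg⟩
  rw [← hm2]
  exact Nat.mul_le_mul_right m hd

/-- The faithful irreducible case of the general bound. -/
theorem faithful_b1 {n : ℕ} (IH : ∀ m < n, B1.{u, v, w} m) [Nontrivial V] (hP : IsPGroup 2 Q)
    (ρ : Q →* Module.End F V) (hinj : Function.Injective ρ) (hpF : ((2 : ℕ) : F) ≠ 0)
    (hn : Module.finrank F V = n)
    (hirr : ∀ U : Submodule F V, (∀ g, ∀ x ∈ U, ρ g x ∈ U) → U = ⊥ ∨ U = ⊤) :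
    GenMod (⊥ : Subgroup Q) (2 * n - 1) := by
  classical
  have hnpos : 0 < n := by
    rw [← hn]
    exact Module.finrank_pos
  have hker : ρ.ker = ⊥ := (MonoidHom.ker_eq_bot_iff ρ).2 hinj
  by_cases hc : ∀ z ∈ Subgroup.center Q, ∃ c : F, ρ z = c • 1
  · by_cases hab : ∀ a b : Q, a * b = b * a
    · have hs : ∀ g, ∃ c : F, ρ g = c • 1 := fun g =>
        hc g (Subgroup.mem_center_iff.2 (fun h => hab h g))
      exact (cyclic_of_scalar ρ hinj hs).mono (by omega)
    · obtain ⟨x, g₀, hd⟩ := exists_second_data hP ρ hinj hpF hc hab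
      have hC := sup_eq_top_of_dich hd.hdich
      obtain ⟨a, ha⟩ := hd.hsq
      by_cases hsq : ∀ b : F, b ^ 2 ≠ a
      · obtain ⟨m, hm, hm2, hg⟩ := caseA IH hP ρ hinj hpF hn hnpos x a ha hsq
        exact (GenMod.of_index_two hC hg).mono (by omega)
      · push Not at hsq
        obtain ⟨b, rfl⟩ := hsq
        have hTT : ρ x * ρ x = (b ^ 2) • 1 := by
          rw [← ha, map_pow, sq]
        obtain ⟨lam, hlam, hne⟩ := exists_eigen (ρ x) b hTT
        have hlam0 : lam ≠ 0 := by
          intro h0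
          rw [h0] at hne
          apply hne
          rw [Submodule.eq_bot_iff]
          intro v hv
          rw [Module.End.mem_eigenspace_iff, zero_smul] at hv
          exact rho_inj ρ x (by rw [hv, map_zero])
        have htop := eigen_ne_top hd hpF lam hlam0
        obtain ⟨h1, h2, h3, h4, h5⟩ := finrank_facts _ hne htop
        have hb := reducible_bound (hP.to_subgroup (Subgroup.centralizer ({x} : Set Q)))
          (ρ.comp (Subgroup.centralizer ({x} : Set Q)).subtype) hpF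
          (Module.End.eigenspace (ρ x) lam)
          (fun c v hv => eigen_centralizer ρ x lam c c.2 v hv) (fun k => 2 * k - 1)
          (fun G _ _ hG τ => IH _ (hn ▸ h3) F _ G hG τ hpF rfl)
          (fun G _ _ hG τ => IH _ (hn ▸ h4) F _ G hG τ hpF rfl)
        rw [inj_comp ρ hinj] at hb
        exact (GenMod.of_index_two hC hb).mono (by beta_reduce; omega)
  · push Not at hc
    obtain ⟨z, hz, hzns⟩ := hc
    obtain ⟨m, hm, hm2, hg⟩ := central_case IH hP ρ hpF hn hnpos hirr z hz hzns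
    rw [hker] at hg
    exact hg.mono (by omega)

/-- Passing to the faithful quotient. -/
theorem gen_of_faithful [Nontrivial V] (ρ : Q →* Module.End F V) {d : ℕ}
    (hirr : ∀ U : Submodule F V, (∀ g, ∀ x ∈ U, ρ g x ∈ U) → U = ⊥ ∨ U = ⊤)
    (h : ∀ (ρQ : (Q ⧸ ρ.ker) →* Module.End F V), Function.Injective ρQ →
      (∀ U : Submodule F V, (∀ g, ∀ x ∈ U, ρQ g x ∈ U) → U = ⊥ ∨ U = ⊤) →
      GenMod (⊥ : Subgroup (Q ⧸ ρ.ker)) d) : GenMod ρ.ker d := by
  let D := ρ.ker
  let ρQ : (Q ⧸ D) →* Module.End F V := QuotientGroup.lift D ρ le_rfl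
  have hρQ : ∀ a : Q, ρQ (a : Q ⧸ D) = ρ a := fun _ => rfl
  have hQinj : Function.Injective ρQ := by
    intro a b hab
    induction a using QuotientGroup.induction_on with
    | H a =>
      induction b using QuotientGroup.induction_on with
      | H b =>
        rw [hρQ, hρQ] at hab
        rw [QuotientGroup.eq, MonoidHom.mem_ker, map_mul, ← hab]
        rw [← map_mul, inv_mul_cancel, map_one]
  have hQirr : ∀ U : Submodule F V, (∀ g, ∀ x ∈ U, ρQ g x ∈ U) → U = ⊥ ∨ U = ⊤ :=
    fun U hU => hirr U (fun a x hx => hU (a : Q ⧸ D) x hx)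
  exact GenMod.of_quot (h ρQ hQinj hQirr)

end faithful

/-- **The general bound.** -/
theorem b1 (n : ℕ) : B1.{u, v, w} n := by
  classical
  induction n using Nat.strong_induction_on with
  | _ n IH =>
    intro F _ V _ _ _ Q _ _ hP ρ hpF hn
    by_cases hV : Nontrivial V
    swap
    · rw [not_nontrivial_iff_subsingleton] at hV
      have : ρ.ker = ⊤ := by
        rw [eq_top_iff]
        intro g _
        rw [MonoidHom.mem_ker]
        apply LinearMap.ext
        intro v
        exact Subsingleton.elim _ _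
      rw [this]
      exact GenMod.of_top _
    by_cases hred : ∃ U : Submodule F V, (∀ g, ∀ x ∈ U, ρ g x ∈ U) ∧ U ≠ ⊥ ∧ U ≠ ⊤
    · obtain ⟨U, hU, hbot, htop⟩ := hred
      obtain ⟨h1, h2, h3, h4, h5⟩ := finrank_facts U hbot htop
      have hb := reducible_bound hP ρ hpF U hU (fun k => 2 * k - 1)
        (fun G _ _ hG τ => IH _ (hn ▸ h3) F _ G hG τ hpF rfl)
        (fun G _ _ hG τ => IH _ (hn ▸ h4) F _ G hG τ hpF rfl)
      exact hb.mono (by beta_reduce; omega)
    have hirr : ∀ U : Submodule F V, (∀ g, ∀ x ∈ U, ρ g x ∈ U) → U = ⊥ ∨ U = ⊤ := by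
      intro U hU
      by_contra hcon
      push Not at hcon
      exact hred ⟨U, hU, hcon.1, hcon.2⟩
    exact gen_of_faithful ρ hirr (fun ρQ hinj hirrQ =>
      faithful_b1 IH (hP.to_quotient _) ρQ hinj hpF hn hirrQ)

end Cfsg.Agent.Lib.FrobRep.TwoRank
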